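import Groth.Agent.H1Closed.Lift
import Groth.Agent.H1Closed.Rep
import Groth.Agent.H1EpsS.PushSheaf
import Groth.Agent.S0714
import Mathlib.AlgebraicGeometry.Morphisms.UniversallyOpen
import Mathlib.CategoryTheory.Limits.Preserves.Shapes.BinaryProducts

/-!
# Sections of pullbacks along closed immersions over henselian weakly contractible objects
-/

set_option autoImplicit false
set_option backward.isDefEq.respectTransparency false
set_option linter.style.haveILetI false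

universe u

open CategoryTheory CategoryTheory.Limits AlgebraicGeometry Opposite

namespace Groth.Agent.H1Closed

open H26ProEt (pieceObj pieceHom IsPartition)

variable {Z X : Scheme.{u}} (i : Z ⟶ X)

/-- The opens of the affine pieces of a base change. -/
theorem exists_affine_piece {V : X.ProEt} {W : Z.ProEt} (a : W ⟶ (ProEtS.bcP i).obj V) (w : W.left) :
    ∃ (O : W.left.Opens) (U : X.ProEt) (g : U ⟶ V) (b : pieceObj W O ⟶ (ProEtS.bcP i).obj U),
      w ∈ O ∧ IsAffine U.left ∧ b ≫ (ProEtS.bcP i).map g = pieceHom W O ≫ a := by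
  let p : W.left ⟶ V.left := a.left ≫ pullback.fst V.hom i
  obtain ⟨B, hB, hwB, -⟩ := exists_isAffineOpen_mem_and_subset (X := V.left) (x := p w) (U := ⊤) trivial
  haveI : WeaklyEtale (B.ι ≫ V.hom) := inferInstance
  let U : X.ProEt := pieceObj V B
  let g : U ⟶ V := pieceHom V B
  let O : W.left.Opens := p ⁻¹ᵁ B
  let q : (O : Scheme.{u}) ⟶ (B : Scheme.{u}) := IsOpenImmersion.lift B.ι (O.ι ≫ p) (by
    rw [Scheme.Opens.range_ι]
    rintro _ ⟨y, rfl⟩
    exact y.2)
  have hq : q ≫ B.ι = O.ι ≫ p := IsOpenImmersion.lift_fac _ _ _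
  have hq' : q ≫ U.hom = (O.ι ≫ W.hom) ≫ i := by
    show q ≫ B.ι ≫ V.hom = _
    rw [← Category.assoc, hq]
    simp only [p, Category.assoc]
    refine congrArg (O.ι ≫ ·) ?_
    exact (congrArg (a.left ≫ ·) pullback.condition).trans
      ((Category.assoc _ _ _).symm.trans (congrArg (· ≫ i) (MorphismProperty.Over.w a)))
  let β : pieceObj W O ⟶ (ProEtS.bcP i).obj U :=
    MorphismProperty.Over.homMk (pullback.lift q (O.ι ≫ W.hom) hq') (pullback.lift_snd _ _ _) trivial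
  refine ⟨O, U, g, β, hwB, hB, MorphismProperty.Over.Hom.ext (pullback.hom_ext ?_ ?_)⟩
  · show (pullback.lift q (O.ι ≫ W.hom) hq' ≫ ((ProEtS.bcP i).map g).left) ≫ pullback.fst V.hom i =
      (O.ι ≫ a.left) ≫ pullback.fst V.hom i
    rw [Category.assoc, show ((ProEtS.bcP i).map g).left ≫ pullback.fst V.hom i = pullback.fst U.hom i ≫ B.ι from
      pullback.lift_fst _ _ _]
    exact ((Category.assoc _ _ _).symm.trans (congrArg (· ≫ B.ι) (pullback.lift_fst _ _ _))).trans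
      (hq.trans (Category.assoc _ _ _).symm)
  · exact (MorphismProperty.Over.w (β ≫ (ProEtS.bcP i).map g)).trans (MorphismProperty.Over.w (pieceHom W O ≫ a)).symm

/-- Refinement of a covering of an affine object, all of whose members map to base changes, by finitely
many affine weakly contractible objects mapping to base changes of affine objects. -/
theorem exists_fine_cover {W : Z.ProEt} [IsAffine W.left] {R : Sieve W} (hR : R ∈ Scheme.ProEt.topology Z W)
    (P : ∀ {W' : Z.ProEt} (_ : W' ⟶ W) (V : X.ProEt) (_ : W' ⟶ (ProEtS.bcP i).obj V), Prop)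
    (hP : ∀ ⦃W' : Z.ProEt⦄ (f : W' ⟶ W), R f → ∃ V a, P f V a) :
    ∃ (κ : Type u) (_ : Finite κ) (W' : κ → Z.ProEt) (w : ∀ k, W' k ⟶ W) (U : κ → X.ProEt)
      (b : ∀ k, W' k ⟶ (ProEtS.bcP i).obj (U k)),
      (∀ k, IsAffine (W' k).left ∧ ProEtS.IsWC (W' k) ∧ IsAffine (U k).left) ∧
      (∀ x : W.left, ∃ (k : κ) (y : (W' k).left), (w k).left y = x) ∧
      ∀ k, ∃ (W₁ : Z.ProEt) (f : W₁ ⟶ W) (c : W' k ⟶ W₁) (V : X.ProEt) (a : W₁ ⟶ (ProEtS.bcP i).obj V)
        (g : U k ⟶ V), P f V a ∧ c ≫ f = w k ∧ b k ≫ (ProEtS.bcP i).map g = c ≫ a := by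
  let S : Sieve W :=
    { arrows := fun W' w => ∃ (W₁ : Z.ProEt) (f : W₁ ⟶ W) (c : W' ⟶ W₁) (V : X.ProEt)
          (a : W₁ ⟶ (ProEtS.bcP i).obj V) (U : X.ProEt) (b : W' ⟶ (ProEtS.bcP i).obj U) (g : U ⟶ V),
          IsAffine U.left ∧ P f V a ∧ c ≫ f = w ∧ b ≫ (ProEtS.bcP i).map g = c ≫ a
      downward_closed := by
        rintro W' W'' w ⟨W₁, f, c, V, a, U, b, g, hU, hf, hcf, hbg⟩ v
        exact ⟨W₁, f, v ≫ c, V, a, U, v ≫ b, g, hU, hf, by rw [Category.assoc, hcf],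
          by rw [Category.assoc, Category.assoc, hbg]⟩ }
  have hS : S ∈ Scheme.ProEt.topology Z W := by
    refine (Scheme.ProEt.topology Z).transitive hR _ fun W₁ f hf => ?_
    obtain ⟨V, a, hPa⟩ := hP f hf
    choose O U g b hwO hU hb using exists_affine_piece i a
    refine (Scheme.ProEt.topology Z).superset_covering ?_ (H1EpsS.etTop_le _ (H1EpsS.ofArrows_mem
      (V := fun w => pieceObj W₁ (O w)) (fun w => pieceHom W₁ (O w))
      (fun w => inferInstanceAs (Etale (O w).ι)) fun w => ⟨w, ⟨w, hwO w⟩, rfl⟩))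
    rw [Sieve.ofArrows, Sieve.generate_le_iff, Presieve.ofArrows_le_iff]
    exact fun w => ⟨W₁, f, pieceHom W₁ (O w), V, a, U w, b w, g w, hU w, hPa, rfl, hb w⟩
  obtain ⟨κ, _, V₀, v₀, hV₀, hv₀, -, hs⟩ := H1EpsS.exists_finite_affine_surj hS
  choose W₁ f c V a U b g hU hPa hcf hbg using hv₀
  choose W' r hcov hW'a hW'w using fun k => haveI := hV₀ k; S0714.result (V₀ k)
  refine ⟨κ, inferInstance, W', fun k => r k ≫ v₀ k, U, fun k => r k ≫ b k,
    fun k => ⟨hW'a k, hW'w k, hU k⟩, fun x => ?_, fun k => ⟨W₁ k, f k, r k ≫ c k, V k, a k, g k, hPa k,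
      by rw [Category.assoc, hcf], by rw [Category.assoc, Category.assoc, hbg]⟩⟩
  obtain ⟨k, y, hy⟩ := hs x
  obtain ⟨T, t, y', ⟨_, q, _, ⟨⟩, rfl⟩, hy'⟩ := H1EpsS.exists_mem_of_mem_topology (hcov k) y
  refine ⟨k, q.left y', ?_⟩
  show (v₀ k).left ((r k).left (q.left y')) = x
  rw [← hy, ← hy']
  rfl

variable [HasLifts i]

/-- Lifts of a jointly surjective family cover an object all of whose points specialise into the
closed subscheme. -/
theorem exists_lift_cover {V : X.ProEt} [IsAffine V.left] (hV : SpecializesInto i V) {κ : Type u} [Finite κ]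
    (W : κ → Z.ProEt) (hW : ∀ k, IsAffine (W k).left ∧ ProEtS.IsWC (W k)) (U : κ → X.ProEt)
    (hU : ∀ k, IsAffine (U k).left) (g : ∀ k, U k ⟶ V) (b : ∀ k, W k ⟶ (ProEtS.bcP i).obj (U k))
    (hs : ∀ x : ((ProEtS.bcP i).obj V).left, ∃ (k : κ) (y : (W k).left),
      (b k ≫ (ProEtS.bcP i).map (g k)).left y = x) :
    ∃ (V' : κ → X.ProEt) (h : ∀ k, V' k ⟶ U k) (e : ∀ k, W k ≅ (ProEtS.bcP i).obj (V' k)),
      (∀ k, IsAffine (V' k).left ∧ ProEtS.IsWC (V' k) ∧ SpecializesInto i (V' k)) ∧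
      (∀ k, (e k).hom ≫ (ProEtS.bcP i).map (h k) = b k) ∧
      Sieve.ofArrows V' (fun k => h k ≫ g k) ∈ Scheme.ProEt.topology X V := by
  classical
  choose V' h e hV'a hV'w hV's he using fun k =>
    haveI := hU k; haveI := (hW k).1; exists_lift i (hW k).2 (b k)
  refine ⟨V', h, e, fun k => ⟨hV'a k, hV'w k, hV's k⟩, he, ?_⟩
  have hsurj : ∀ v : V.left, ∃ (k : κ) (y : (V' k).left), (h k ≫ g k).left y = v := by
    intro v
    obtain ⟨z, hz, hvz⟩ := hV v
    obtain ⟨x, hx⟩ : z ∈ Set.range (pullback.fst V.hom i : ((ProEtS.bcP i).obj V).left ⟶ V.left) := by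
      rw [range_fst']
      exact hz
    obtain ⟨k, y, hy⟩ := hs x
    have hyz : (h k ≫ g k).left ((pullback.fst (V' k).hom i : ((ProEtS.bcP i).obj (V' k)).left ⟶ (V' k).left)
        ((e k).hom.left y)) = z := by
      rw [← hx, ← hy, ← he k, Category.assoc, ← Functor.map_comp]
      exact (congrArg (fun r => r.base ((e k).hom.left y)) (H1EpsS.isPullback_bcP_map i (h k ≫ g k)).w).symm
    haveI : WeaklyEtale (h k ≫ g k).left := weaklyEtale_left' _
    obtain ⟨y', -, hy'⟩ := Flat.generalizingMap (h k ≫ g k).left (hyz ▸ hvz)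
    exact ⟨k, y', hy'⟩
  obtain ⟨n, ⟨eκ⟩⟩ := Finite.exists_equiv_fin κ
  haveI : ∀ k : Fin n, IsAffine (V' (eκ.symm k)).left := fun k => hV'a _
  refine (Scheme.ProEt.topology X).superset_covering ?_ (H26ProEt.mem_topology_of_finite_affine
    (fun k => V' (eκ.symm k)) (fun k => h (eκ.symm k) ≫ g (eκ.symm k)) fun v => ?_)
  · rw [Sieve.ofArrows, Sieve.generate_le_iff, Presieve.ofArrows_le_iff]
    exact fun k => ⟨_, 𝟙 _, _, ⟨eκ.symm k⟩, Category.id_comp _⟩
  · obtain ⟨k, y, hy⟩ := hsurj v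
    obtain ⟨m, rfl⟩ := eκ.symm.surjective k
    exact ⟨m, y, hy⟩

variable [ProEtS.PCont i] (H : ProEtS.AbP X)

theorem el_injective {V : X.ProEt} [IsAffine V.left] (hV : SpecializesInto i V) (x : H.obj.obj (op V))
    (hx : el H (𝟙 ((ProEtS.bcP i).obj V)) x = 0) : x = 0 := by
  haveI := isAffine_bcP i V
  obtain ⟨R, hR, hRP⟩ := exists_local_zero H (𝟙 ((ProEtS.bcP i).obj V)) x hx
  obtain ⟨κ, _, W', w, U, b, hW', hs, hfac⟩ := exists_fine_cover i hR
    (fun {W'} f V' a' => ∃ g : V' ⟶ V, a' ≫ (ProEtS.bcP i).map g = f ∧ H.obj.map g.op x = 0) (fun W' f hf => by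
      obtain ⟨V', g, a', hga, hg⟩ := hRP f hf
      exact ⟨V', a', g, hga.trans (Category.comp_id f), hg⟩)
  choose W₁ f c V₁ a g hP hcf hbg using hfac
  choose g' hg' hgx using hP
  obtain ⟨V', h, e, -, -, hcov⟩ := exists_lift_cover i hV W' (fun k => ⟨(hW' k).1, (hW' k).2.1⟩) U
    (fun k => (hW' k).2.2) (fun k => g k ≫ g' k) b (fun z => by
      obtain ⟨k, y, hy⟩ := hs z
      refine ⟨k, y, ?_⟩
      rw [← hy, Functor.map_comp, ← Category.assoc, hbg, Category.assoc, hg', hcf])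
  have hsh : Presieve.IsSheaf (Scheme.ProEt.topology X) (H.obj ⋙ forget AddCommGrpCat.{u + 1}) :=
    (isSheaf_iff_isSheaf_of_type _ _).1 ((Presheaf.isSheaf_iff_isSheaf_forget _ _ (forget _)).1 H.property)
  refine (hsh _ hcov).isSeparatedFor.ext ?_
  rintro T t ⟨_, q, _, ⟨k⟩, rfl⟩
  show H.obj.map (q ≫ h k ≫ g k ≫ g' k).op x = H.obj.map (q ≫ h k ≫ g k ≫ g' k).op 0
  rw [map_zero]
  simp only [op_comp, Functor.map_comp_apply, hgx k, map_zero]

theorem el_surjective {V : X.ProEt} [IsAffine V.left] (hVw : ProEtS.IsWC V) (hV : SpecializesInto i V)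
    (r : ((ProEtS.pullP i).obj H).obj.obj (op ((ProEtS.bcP i).obj V))) :
    ∃ x, el H (𝟙 ((ProEtS.bcP i).obj V)) x = r := by
  classical
  haveI := isAffine_bcP i V
  haveI : PreservesFiniteLimits (ProEtS.bcP i) := by
    set_option backward.isDefEq.respectTransparency.types false in
    exact inferInstanceAs (PreservesFiniteLimits (MorphismProperty.Over.pullback (T := Scheme.{u}) @WeaklyEtale ⊤ i))
  obtain ⟨R, hR, hRP⟩ := exists_local_rep H r
  obtain ⟨κ, _, W', w, U, b, hW', hs, hfac⟩ := exists_fine_cover i hR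
    (fun {W'} f Q a => ∃ (g : Q ⟶ V) (y : H.obj.obj (op Q)), a ≫ (ProEtS.bcP i).map g = f ∧
      ((ProEtS.pullP i).obj H).obj.map f.op r = el H a y) (fun W' f hf => by
      obtain ⟨Q, a, y, hy⟩ := hRP f hf
      refine ⟨V ⨯ Q, prod.lift f a ≫ (PreservesLimitPair.iso (ProEtS.bcP i) V Q).inv, prod.fst,
        H.obj.map (prod.snd : V ⨯ Q ⟶ Q).op y, ?_, ?_⟩
      · rw [Category.assoc, PreservesLimitPair.iso_inv_fst, prod.lift_fst]
      · rw [el_map, Category.assoc, PreservesLimitPair.iso_inv_snd, prod.lift_snd]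
        exact hy)
  choose W₁ f c V₁ a g hP hcf hbg using hfac
  choose g' y hg' hy using hP
  obtain ⟨V', h, e, hV', he, hcov⟩ := exists_lift_cover i hV W' (fun k => ⟨(hW' k).1, (hW' k).2.1⟩) U
    (fun k => (hW' k).2.2) (fun k => g k ≫ g' k) b (fun z => by
      obtain ⟨k, z', hz⟩ := hs z
      refine ⟨k, z', ?_⟩
      rw [← hz, Functor.map_comp, ← Category.assoc, hbg, Category.assoc, hg', hcf])
  obtain ⟨n, O, hO, hOR⟩ := H26ProEt.refines_of_splits (H26ProEt.splits_of_isWC hVw) _ hcov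
  have hex : ∀ {A : X.ProEt} (t : A ⟶ V), Sieve.ofArrows V' (fun k => h k ≫ g k ≫ g' k) t →
      ∃ (k : κ) (q' : A ⟶ V' k), q' ≫ h k ≫ g k ≫ g' k = t := by
    rintro A t ⟨_, q', _, ⟨k⟩, rfl⟩
    exact ⟨k, q', rfl⟩
  have ht' : ∀ l, ∃ (k : κ) (q' : pieceObj V (O l) ⟶ V' k), q' ≫ h k ≫ g k ≫ g' k = pieceHom V (O l) :=
    fun l => hex _ (hOR l)
  choose k q' hq' using ht'
  have hsh : Presieve.IsSheaf (Scheme.ProEt.topology X) (H.obj ⋙ forget AddCommGrpCat.{u + 1}) :=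
    (isSheaf_iff_isSheaf_of_type _ _).1 ((Presheaf.isSheaf_iff_isSheaf_forget _ _ (forget _)).1 H.property)
  obtain ⟨x, hx, -⟩ := hO.existsUnique_section hsh fun l =>
    H.obj.map (q' l ≫ h (k l) ≫ g (k l)).op (y (k l))
  refine ⟨x, ?_⟩
  have hcovZ : Sieve.ofArrows (fun l => (ProEtS.bcP i).obj (pieceObj V (O l)))
      (fun l => (ProEtS.bcP i).map (pieceHom V (O l))) ∈ Scheme.ProEt.topology Z ((ProEtS.bcP i).obj V) := by
    refine H1EpsS.etTop_le _ (H1EpsS.ofArrows_mem _ (fun l => ?_) fun z => ?_)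
    · haveI : IsOpenImmersion ((ProEtS.bcP i).map (pieceHom V (O l))).left :=
        MorphismProperty.of_isPullback (P := @IsOpenImmersion)
          (H1EpsS.isPullback_bcP_map i (pieceHom V (O l))).flip (inferInstanceAs (IsOpenImmersion (O l).ι))
      infer_instance
    · obtain ⟨l, hl⟩ := hO.cover ((pullback.fst V.hom i : ((ProEtS.bcP i).obj V).left ⟶ V.left) z)
      obtain ⟨z', -, hz'⟩ := Scheme.exists_preimage_of_isPullback (H1EpsS.isPullback_bcP_map i (pieceHom V (O l))).flip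
        (⟨_, hl⟩ : (pieceObj V (O l)).left) z rfl
      exact ⟨l, z', hz'⟩
  have hsh' : Presieve.IsSheaf (Scheme.ProEt.topology Z) (((ProEtS.pullP i).obj H).obj ⋙ forget AddCommGrpCat.{u + 1}) :=
    (isSheaf_iff_isSheaf_of_type _ _).1
      ((Presheaf.isSheaf_iff_isSheaf_forget _ _ (forget _)).1 ((ProEtS.pullP i).obj H).property)
  refine (hsh' _ hcovZ).isSeparatedFor.ext ?_
  rintro T' t' ⟨_, p, _, ⟨l⟩, rfl⟩
  show ((ProEtS.pullP i).obj H).obj.map (p ≫ (ProEtS.bcP i).map (pieceHom V (O l))).op _ =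
    ((ProEtS.pullP i).obj H).obj.map (p ≫ (ProEtS.bcP i).map (pieceHom V (O l))).op r
  rw [op_comp, Functor.map_comp_apply, Functor.map_comp_apply]
  refine congrArg _ ?_
  rw [map_el, Category.comp_id, ← Category.id_comp ((ProEtS.bcP i).map (pieceHom V (O l))), ← el_map]
  erw [hx l]
  rw [el_map, Category.id_comp, Functor.map_comp, Category.id_comp]
  let m : (ProEtS.bcP i).obj (pieceObj V (O l)) ⟶ W₁ (k l) :=
    (ProEtS.bcP i).map (q' l) ≫ (e (k l)).inv ≫ c (k l)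
  have hma : m ≫ a (k l) = (ProEtS.bcP i).map (q' l) ≫ (ProEtS.bcP i).map (h (k l) ≫ g (k l)) := by
    simp only [m, Category.assoc, ← hbg, ← he, Functor.map_comp, Iso.inv_hom_id_assoc]
  have hmf : m ≫ f (k l) = (ProEtS.bcP i).map (pieceHom V (O l)) := by
    rw [← hg', ← Category.assoc, hma, ← hq' l]
    simp only [Functor.map_comp, Category.assoc]
  rw [← hma, ← map_el, ← hy, ← Functor.map_comp_apply, ← op_comp, hmf]

theorem el_bijective {V : X.ProEt} [IsAffine V.left] (hVw : ProEtS.IsWC V) (hV : SpecializesInto i V) :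
    Function.Bijective (ηP i H V) := by
  have key : ∀ x, el H (𝟙 ((ProEtS.bcP i).obj V)) x = ηP i H V x := fun x => by
    simp [el]
  refine ⟨(injective_iff_map_eq_zero (((ProEtS.pullPushAdjP i).unit.app H).hom.app (op V)).hom).2 fun x hx =>
    el_injective i H hV x ((key x).trans hx), fun r => ?_⟩
  obtain ⟨x, hx⟩ := el_surjective i H hVw hV r
  exact ⟨x, (key x).symm.trans hx⟩

end Groth.Agent.H1Closed
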