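import Groth.Agent.H1Closed.Decomp
import Groth.Agent.H1Closed.Sections
import Groth.Agent.S0732
import Groth.Agent.S0742
import Groth.Agent.S7286
import Mathlib.CategoryTheory.Sites.Limits
import Mathlib.Algebra.Category.Grp.Limits

/-!
# Extension by zero along a quasi-compact open immersion
-/

set_option autoImplicit false
set_option backward.isDefEq.respectTransparency false
set_option linter.style.haveILetI false

universe u

open CategoryTheory CategoryTheory.Limits AlgebraicGeometry Opposite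

namespace Groth.Agent.H1Closed

open H26ProEt (pieceObj pieceHom IsPartition)

variable {X : Scheme.{u}}

theorem isSheaf_type (F : ProEtS.AbP X) :
    Presieve.IsSheaf (Scheme.ProEt.topology X) (F.obj ⋙ forget AddCommGrpCat.{u + 1}) :=
  (isSheaf_iff_isSheaf_of_type _ _).1 ((Presheaf.isSheaf_iff_isSheaf_forget _ _ (forget _)).1 F.property)

theorem piece_ext (F : ProEtS.AbP X) {V : X.ProEt} {O : Fin 2 → V.left.Opens} (hO : IsPartition O)
    {s s' : F.obj.obj (op V)} (h₀ : F.obj.map (pieceHom V (O 0)).op s = F.obj.map (pieceHom V (O 0)).op s')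
    (h₁ : F.obj.map (pieceHom V (O 1)).op s = F.obj.map (pieceHom V (O 1)).op s') : s = s' :=
  (hO.existsUnique_section (isSheaf_type F) fun k => F.obj.map (pieceHom V (O k)).op s').unique
    (fun k => by fin_cases k <;> assumption) fun _ => rfl

theorem piece_glue (F : ProEtS.AbP X) {V : X.ProEt} {O : Fin 2 → V.left.Opens} (hO : IsPartition O)
    (t : ∀ k, F.obj.obj (op (pieceObj V (O k)))) :
    ∃ s, ∀ k, F.obj.map (pieceHom V (O k)).op s = t k :=
  (hO.existsUnique_section (isSheaf_type F) t).exists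

theorem subsingleton_of_isEmpty (F : ProEtS.AbP X) (V : X.ProEt) [IsEmpty V.left] :
    Subsingleton (F.obj.obj (op V)) := by
  haveI : IsAffine V.left := isAffine_of_isEmpty
  have hcov := H26ProEt.mem_topology_of_finite_affine (X := V) (ι := Empty) Empty.elim (fun k => k.elim)
    (hV := fun k => k.elim) fun x => isEmptyElim x
  refine ⟨fun s s' => (isSheaf_type F _ hcov).isSeparatedFor.ext ?_⟩
  rintro T t ⟨_, _, _, ⟨k⟩, -⟩
  exact k.elim

theorem isRetrocompact_range {U : Scheme.{u}} (j : U ⟶ X) [QuasiCompact j] : IsRetrocompact (Set.range j) := by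
  intro W hW hWc
  rw [← Set.image_preimage_eq_range_inter]
  exact (QuasiCompact.isCompact_preimage (f := j) W hWc hW).image j.continuous

theorem exists_closedImmersion_compl {U : Scheme.{u}} (j : U ⟶ X) [IsOpenImmersion j] :
    ∃ (Z : Scheme.{u}) (i : Z ⟶ X) (_ : IsClosedImmersion i), Set.range j = (Set.range i)ᶜ := by
  let C : TopologicalSpace.Closeds X := ⟨(Set.range j)ᶜ, j.isOpenEmbedding.isOpen_range.isClosed_compl⟩
  refine ⟨_, (Scheme.IdealSheafData.vanishingIdeal C).subschemeι, inferInstance, ?_⟩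
  rw [Scheme.IdealSheafData.range_subschemeι, Scheme.IdealSheafData.coe_support_vanishingIdeal]
  exact (compl_compl _).symm

theorem isIso_of_bijective_wc {A B : ProEtS.AbP X} (ψ : A ⟶ B)
    (h : ∀ V : X.ProEt, IsAffine V.left → ProEtS.IsWC V → Function.Bijective (ψ.hom.app (op V))) : IsIso ψ := by
  have hwc : ∀ (V : X.ProEt), IsAffine V.left → EtPBC.IsWContractible Γ(V.left, ⊤) → ProEtS.IsWC V := fun V hV hw =>
    haveI := hV; H26ProEt.isWC_of_refines (H26ProEt.refines_of_splits (H26ProEt.splits_iff.1 hw))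
  refine (Sheaf.isLocallyBijective_iff_isIso ψ).1 ⟨⟨fun {W} x y hxy => ?_⟩, ⟨fun {W} s => ?_⟩⟩
  · obtain ⟨κ, V, w, hcov, hV⟩ := S7286.result W.unop
    refine (Scheme.ProEt.topology X).superset_covering ?_ hcov
    rw [Sieve.generate_le_iff, Presieve.ofArrows_le_iff]
    intro k
    refine (h (V k) (hV k).1 (hwc _ (hV k).1 (hV k).2)).1 ?_
    show ψ.hom.app _ (A.obj.map (w k).op x) = ψ.hom.app _ (A.obj.map (w k).op y)
    rw [NatTrans.naturality_apply, NatTrans.naturality_apply]
    exact congrArg _ hxy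
  · obtain ⟨κ, V, w, hcov, hV⟩ := S7286.result W
    refine (Scheme.ProEt.topology X).superset_covering ?_ hcov
    rw [Sieve.generate_le_iff, Presieve.ofArrows_le_iff]
    intro k
    exact (h (V k) (hV k).1 (hwc _ (hV k).1 (hV k).2)).2 _

variable {Z U : Scheme.{u}} (i : Z ⟶ X) [IsClosedImmersion i] (j : U ⟶ X) [IsOpenImmersion j]
  (hc : Set.range j = (Set.range i)ᶜ) [ProEtS.JPCont j]

include hc

theorem subsingleton_extZero {V : X.ProEt} [IsAffine V.left] (hV : SpecializesInto i V) (F : ProEtS.AbP U) :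
    Subsingleton (((ProEtS.extZeroP j).obj F).obj.obj (op V)) :=
  S0732.result j i (by rw [Set.disjoint_left]; intro x hx; exact (hc ▸ hx : x ∈ (Set.range i)ᶜ)) V hV F

omit [ProEtS.JPCont j] [IsClosedImmersion i] in
/-- An object lying over the open subscheme comes from its site. -/
theorem exists_open_preimage {W : X.ProEt} (hW : ∀ w : W.left, W.hom w ∉ Set.range i) :
    ∃ W' : U.ProEt, Nonempty ((ProEtS.compP j).obj W' ≅ W) := by
  let l : W.left ⟶ U := IsOpenImmersion.lift j W.hom (by
    rintro _ ⟨w, rfl⟩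
    rw [hc]
    exact hW w)
  have hl : l ≫ j = W.hom := IsOpenImmersion.lift_fac _ _ _
  haveI : WeaklyEtale (l ≫ j) := by rw [hl]; infer_instance
  haveI : WeaklyEtale l := WeaklyEtale.of_comp l j
  exact ⟨Scheme.ProEt.mk l, ⟨MorphismProperty.Over.isoMk (Iso.refl _) ((Category.id_comp _).trans hl.symm)⟩⟩

variable [ProEtS.PCont j] [QuasiCompact j]

theorem preservesLimitsOfShape_extZeroP (J : Type u) [SmallCategory J] :
    PreservesLimitsOfShape J (ProEtS.extZeroP j) := by
  refine ⟨fun {K} => ⟨fun {c} hcl => ?_⟩⟩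
  let L := ProEtS.extZeroP j
  let φ := limit.lift (K ⋙ L) (L.mapCone c)
  suffices IsIso φ from ⟨IsLimit.ofPointIso (limit.isLimit (K ⋙ L)) (i := this)⟩
  refine isIso_of_bijective_wc φ fun V hVa hVw => ?_
  haveI := hVa
  obtain ⟨O, hO, hO₀, -, hO₀s, hO₁⟩ := exists_decomp i (hc ▸ isRetrocompact_range j) V hVw
  haveI := hO₀
  obtain ⟨W', ⟨e⟩⟩ := exists_open_preimage i j hc hO₁
  let m : (ProEtS.compP j).obj W' ⟶ V := e.hom ≫ pieceHom V (O 1)
  haveI hu : ∀ F : ProEtS.AbP U, IsIso (((ProEtS.extZeroPAdj j).unit.app F).hom.app (op W')) := fun F => by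
    haveI := (S0742.result j F F).1
    haveI : IsIso ((ProEtS.extZeroPAdj j).unit.app F).hom :=
      ((sheafToPresheaf _ _).mapIso (asIso ((ProEtS.extZeroPAdj j).unit.app F))).isIso_hom
    infer_instance
  haveI hm : ∀ F : ProEtS.AbP U, IsIso ((L.obj F).obj.map m.op) := fun F => by
    refine (ConcreteCategory.isIso_iff_bijective _).2 ⟨fun s s' h => ?_, fun t => ?_⟩
    · refine piece_ext (L.obj F) hO ((subsingleton_extZero i j hc hO₀s F).elim _ _) ?_
      refine (ConcreteCategory.bijective_of_isIso ((L.obj F).obj.map e.hom.op)).1 ?_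
      simp only [← Functor.map_comp_apply, ← op_comp]
      exact h
    · obtain ⟨s, hs⟩ := piece_glue (L.obj F) hO (Fin.cons 0 (Fin.cons ((L.obj F).obj.map e.inv.op t) finZeroElim))
      refine ⟨s, ?_⟩
      show (L.obj F).obj.map (e.hom ≫ pieceHom V (O 1)).op s = t
      rw [op_comp, Functor.map_comp_apply, hs 1]
      show (L.obj F).obj.map e.hom.op ((L.obj F).obj.map e.inv.op t) = t
      rw [← Functor.map_comp_apply, ← op_comp, Iso.hom_inv_id, op_id, CategoryTheory.Functor.map_id]
      rfl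
  let G : ProEtS.AbP X ⥤ AddCommGrpCat.{u + 1} := sheafToPresheaf _ _ ⋙ (evaluation _ _).obj (op V)
  let G₀ : ProEtS.AbP U ⥤ AddCommGrpCat.{u + 1} := sheafToPresheaf _ _ ⋙ (evaluation _ _).obj (op W')
  let e' : L ⋙ G ≅ G₀ := NatIso.ofComponents
    (fun F => asIso ((L.obj F).obj.map m.op) ≪≫ (asIso (((ProEtS.extZeroPAdj j).unit.app F).hom.app (op W'))).symm)
    fun {F F'} f => by
      show (L.map f).hom.app (op V) ≫ (L.obj F').obj.map m.op ≫ inv _ =
        ((L.obj F).obj.map m.op ≫ inv _) ≫ f.hom.app (op W')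
      rw [← Category.assoc, ← NatTrans.naturality, Category.assoc, Category.assoc]
      congr 1
      rw [IsIso.comp_inv_eq, Category.assoc, IsIso.eq_inv_comp]
      exact (NatTrans.congr_app (congrArg (fun q => q.hom) ((ProEtS.extZeroPAdj j).unit.naturality f)) (op W')).symm
  haveI : PreservesLimit K G₀ := inferInstance
  haveI : PreservesLimit K (L ⋙ G) := preservesLimit_of_natIso K e'.symm
  have h1 : IsLimit (G.mapCone (L.mapCone c)) := isLimitOfPreserves (L ⋙ G) hcl
  have h2 : IsLimit (G.mapCone (limit.cone (K ⋙ L))) := isLimitOfPreserves G (limit.isLimit _)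
  have h3 : G.map φ = (h1.conePointUniqueUpToIso h2).hom := h2.hom_ext fun k => by
    rw [IsLimit.conePointUniqueUpToIso_hom_comp]
    show G.map φ ≫ G.map (limit.π (K ⋙ L) k) = G.map (L.map (c.π.app k))
    rw [← G.map_comp, limit.lift_π]
    rfl
  haveI : IsIso (G.map φ) := h3 ▸ inferInstance
  exact (ConcreteCategory.isIso_iff_bijective (G.map φ)).1 inferInstance

variable [ProEtS.PCont i]

theorem shortExact_restr_push_pull (F : ProEtS.AbP X) :
    ∃ h : (ProEtS.extZeroPAdj j).counit.app F ≫ (ProEtS.pullPushAdjP i).unit.app F = 0,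
      (ShortComplex.mk _ _ h).ShortExact := by
  let a : (ProEtS.extZeroP j).obj ((ProEtS.restrP j).obj F) ⟶ F := (ProEtS.extZeroPAdj j).counit.app F
  let b : F ⟶ (ProEtS.pushP i).obj ((ProEtS.pullP i).obj F) := (ProEtS.pullPushAdjP i).unit.app F
  have hdata : ∀ V : X.ProEt, IsAffine V.left → ProEtS.IsWC V →
      (∀ s, a.hom.app (op V) s = 0 → s = 0) ∧
      (∀ s, b.hom.app (op V) (a.hom.app (op V) s) = 0) ∧
      (∀ x, b.hom.app (op V) x = 0 → ∃ s, a.hom.app (op V) s = x) ∧
      (∀ y, ∃ x, b.hom.app (op V) x = y) := by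
    intro V hVa hVw
    haveI := hVa
    obtain ⟨O, hO, hO₀, hO₀w, hO₀s, hO₁⟩ := exists_decomp i (hc ▸ isRetrocompact_range j) V hVw
    haveI := hO₀
    obtain ⟨W', ⟨e⟩⟩ := exists_open_preimage i j hc hO₁
    haveI h0 := subsingleton_extZero i j hc hO₀s ((ProEtS.restrP j).obj F)
    have hb0 : Function.Bijective (b.hom.app (op (pieceObj V (O 0)))) := el_bijective i F hO₀w hO₀s
    haveI : IsEmpty ((ProEtS.bcP i).obj (pieceObj V (O 1))).left := ⟨fun z => by
      have h : (pullback.fst (pieceObj V (O 1)).hom i z) ∈ (pieceObj V (O 1)).hom ⁻¹' Set.range i := by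
        rw [← range_fst']
        exact ⟨z, rfl⟩
      exact hO₁ _ h⟩
    haveI h1 : Subsingleton (((ProEtS.pushP i).obj ((ProEtS.pullP i).obj F)).obj.obj (op (pieceObj V (O 1)))) :=
      subsingleton_of_isEmpty ((ProEtS.pullP i).obj F) ((ProEtS.bcP i).obj (pieceObj V (O 1)))
    have ha1 : Function.Bijective (a.hom.app (op (pieceObj V (O 1)))) := by
      have hW : Function.Bijective (a.hom.app (op ((ProEtS.compP j).obj W'))) := by
        haveI := (S0742.result j ((ProEtS.restrP j).obj F) ((ProEtS.restrP j).obj F)).1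
        haveI : IsIso ((ProEtS.restrP j).map a) :=
          IsIso.of_isIso_fac_left ((ProEtS.extZeroPAdj j).right_triangle_components F)
        exact (ConcreteCategory.isIso_iff_bijective
          (((sheafToPresheaf _ _).map ((ProEtS.restrP j).map a)).app (op W'))).1 inferInstance
      refine (ConcreteCategory.isIso_iff_bijective _).1 ?_
      haveI : IsIso (a.hom.app (op ((ProEtS.compP j).obj W'))) := (ConcreteCategory.isIso_iff_bijective _).2 hW
      rw [show a.hom.app (op (pieceObj V (O 1))) =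
        ((ProEtS.extZeroP j).obj ((ProEtS.restrP j).obj F)).obj.map e.hom.op ≫
          a.hom.app (op ((ProEtS.compP j).obj W')) ≫ F.obj.map e.inv.op from by
        rw [← Category.assoc, a.hom.naturality, Category.assoc]
        refine (Category.comp_id _).symm.trans (congrArg (a.hom.app _ ≫ ·) ?_)
        show 𝟙 _ = F.obj.map e.hom.op ≫ F.obj.map e.inv.op
        rw [← Functor.map_comp, ← op_comp, Iso.inv_hom_id, op_id, CategoryTheory.Functor.map_id]]
      infer_instance
    refine ⟨fun s hs => piece_ext _ hO (h0.elim _ _) (ha1.1 ?_), fun s => piece_ext _ hO ?_ (h1.elim _ _),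
      fun x hx => ?_, fun y => ?_⟩
    · rw [NatTrans.naturality_apply, hs]
      simp only [map_zero]
    · rw [← NatTrans.naturality_apply, ← NatTrans.naturality_apply, h0.elim (((ProEtS.extZeroP j).obj
        ((ProEtS.restrP j).obj F)).obj.map (pieceHom V (O 0)).op s) 0]
      simp only [map_zero]
    · obtain ⟨t, ht⟩ := ha1.2 (F.obj.map (pieceHom V (O 1)).op x)
      obtain ⟨s, hs⟩ := piece_glue ((ProEtS.extZeroP j).obj ((ProEtS.restrP j).obj F)) hO
        (Fin.cons 0 (Fin.cons t finZeroElim))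
      refine ⟨s, piece_ext _ hO (hb0.1 ?_) ?_⟩
      · rw [← NatTrans.naturality_apply, hs 0, NatTrans.naturality_apply b.hom _ x, hx]
        show b.hom.app _ (a.hom.app _ 0) = _
        simp only [map_zero]
      · rw [← NatTrans.naturality_apply, hs 1]
        exact ht
    · obtain ⟨t, ht⟩ := hb0.2 (((ProEtS.pushP i).obj ((ProEtS.pullP i).obj F)).obj.map (pieceHom V (O 0)).op y)
      obtain ⟨x, hx⟩ := piece_glue F hO (Fin.cons t (Fin.cons 0 finZeroElim))
      refine ⟨x, piece_ext _ hO ?_ (h1.elim _ _)⟩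
      rw [← NatTrans.naturality_apply, hx 0]
      exact ht
  have hwc : ∀ (V : X.ProEt), IsAffine V.left → EtPBC.IsWContractible Γ(V.left, ⊤) → ProEtS.IsWC V := fun V hV hw =>
    haveI := hV; H26ProEt.isWC_of_refines (H26ProEt.refines_of_splits (H26ProEt.splits_iff.1 hw))
  have hzero : a ≫ b = 0 := by
    ext W s
    obtain ⟨κ, V, w, hcov, hV⟩ := S7286.result W.unop
    refine (isSheaf_type _ _ hcov).isSeparatedFor.ext ?_
    rintro T t ⟨_, q, _, ⟨k⟩, rfl⟩
    show ((ProEtS.pushP i).obj ((ProEtS.pullP i).obj F)).obj.map (q ≫ w k).op (b.hom.app W (a.hom.app W s)) =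
      ((ProEtS.pushP i).obj ((ProEtS.pullP i).obj F)).obj.map (q ≫ w k).op 0
    rw [op_comp, Functor.map_comp_apply, Functor.map_comp_apply, map_zero]
    refine congrArg _ (((NatTrans.naturality_apply b.hom (w k).op _).symm.trans
      (congrArg _ (NatTrans.naturality_apply a.hom (w k).op s).symm)).trans ?_)
    exact (hdata (V k) (hV k).1 (hwc _ (hV k).1 (hV k).2)).2.1 _
  refine ⟨hzero, ?_⟩
  let S := ShortComplex.mk a b hzero
  have hmono : Mono a := by
    refine ⟨fun {G} g g' hg => ?_⟩
    ext W s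
    obtain ⟨κ, V, w, hcov, hV⟩ := S7286.result W.unop
    refine (isSheaf_type _ _ hcov).isSeparatedFor.ext ?_
    rintro T t ⟨_, q, _, ⟨k⟩, rfl⟩
    show ((ProEtS.extZeroP j).obj ((ProEtS.restrP j).obj F)).obj.map (q ≫ w k).op (g.hom.app W s) =
      ((ProEtS.extZeroP j).obj ((ProEtS.restrP j).obj F)).obj.map (q ≫ w k).op (g'.hom.app W s)
    rw [op_comp, Functor.map_comp_apply, Functor.map_comp_apply, ← NatTrans.naturality_apply g.hom,
      ← NatTrans.naturality_apply g'.hom]
    refine congrArg _ (sub_eq_zero.1 ((hdata (V k) (hV k).1 (hwc _ (hV k).1 (hV k).2)).1 _ ?_))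
    rw [map_sub, sub_eq_zero]
    exact ConcreteCategory.congr_hom (NatTrans.congr_app (congrArg (fun r => r.hom) hg) (op (V k))) _
  have hepi : Epi b := by
    refine (Sheaf.isLocallySurjective_iff_epi' _ b).1 ⟨fun {W} s => ?_⟩
    obtain ⟨κ, V, w, hcov, hV⟩ := S7286.result W
    refine (Scheme.ProEt.topology X).superset_covering ?_ hcov
    rw [Sieve.generate_le_iff, Presieve.ofArrows_le_iff]
    intro k
    exact (hdata (V k) (hV k).1 (hwc _ (hV k).1 (hV k).2)).2.2.2 _
  haveI := hmono
  haveI hiso : IsIso (kernel.lift b a hzero) := isIso_of_bijective_wc _ fun V hVa hVw => by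
    haveI : Mono ((sheafToPresheaf _ _).map (kernel.ι b)) := (sheafToPresheaf _ _).map_mono _
    have hι : Function.Injective ((kernel.ι b).hom.app (op V)) :=
      (AddCommGrpCat.mono_iff_injective _).1
        (inferInstanceAs (Mono (((sheafToPresheaf _ _).map (kernel.ι b)).app (op V))))
    have hfac : ∀ s, (kernel.ι b).hom.app (op V) ((kernel.lift b a hzero).hom.app (op V) s) = a.hom.app (op V) s :=
      fun s => ConcreteCategory.congr_hom (NatTrans.congr_app (congrArg (fun r => r.hom) (kernel.lift_ι b a hzero)) (op V)) s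
    refine ⟨(injective_iff_map_eq_zero ((kernel.lift b a hzero).hom.app (op V)).hom).2 fun s hs => ?_, fun x => ?_⟩
    · refine (hdata V hVa hVw).1 s ((hfac s).symm.trans ?_)
      exact (congrArg _ hs).trans (map_zero _)
    · obtain ⟨s, hs⟩ := (hdata V hVa hVw).2.2.1 ((kernel.ι b).hom.app (op V) x)
        ((ConcreteCategory.congr_hom (NatTrans.congr_app (congrArg (fun r => r.hom) (kernel.condition b)) (op V)) x).trans (by simp))
      exact ⟨s, hι ((hfac s).trans hs)⟩
  exact { exact := S.exact_of_f_is_kernel (IsLimit.ofIsoLimit (kernelIsKernel b)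
            (Fork.ext (asIso (kernel.lift b a hzero)).symm (by simp [S, IsIso.inv_comp_eq]))) }

end Groth.Agent.H1Closed
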