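import Groth.Agent.H1Closed.Sections
import Groth.Agent.S7286
import Mathlib.CategoryTheory.Sites.Limits
import Mathlib.Algebra.Category.Grp.Limits

/-!
# Pullback along a closed immersion: counit and limits
-/

set_option autoImplicit false
set_option backward.isDefEq.respectTransparency false
set_option linter.style.haveILetI false

universe u

open CategoryTheory CategoryTheory.Limits AlgebraicGeometry Opposite

namespace Groth.Agent.H1Closed

variable {Z X : Scheme.{u}} (i : Z ⟶ X) [HasLifts i]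

/-- The base changes of henselian weakly contractible objects cover. -/
theorem exists_hen_cover (W : Z.ProEt) :
    ∃ (κ : Type u) (V : κ → X.ProEt) (w : ∀ k, (ProEtS.bcP i).obj (V k) ⟶ W),
      (∀ k, IsAffine (V k).left ∧ ProEtS.IsWC (V k) ∧ SpecializesInto i (V k)) ∧
      Sieve.ofArrows (fun k => (ProEtS.bcP i).obj (V k)) w ∈ Scheme.ProEt.topology Z W := by
  obtain ⟨μ, W₀, w₀, hcov, hW₀⟩ := S7286.result W
  have hsmall : ∀ m, ∃ (κ : Type u) (_ : Finite κ) (V : κ → X.ProEt) (w : ∀ k, (ProEtS.bcP i).obj (V k) ⟶ W₀ m),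
      (∀ k, IsAffine (V k).left ∧ ProEtS.IsWC (V k) ∧ SpecializesInto i (V k)) ∧
      Sieve.ofArrows (fun k => (ProEtS.bcP i).obj (V k)) w ∈ Scheme.ProEt.topology Z (W₀ m) := fun m => by
    haveI := (hW₀ m).1
    haveI : WeaklyEtale (𝟙 X) := inferInstance
    obtain ⟨κ, _, W', w, U, b, hW', hs, -⟩ := exists_fine_cover i ((Scheme.ProEt.topology Z).top_mem (W₀ m))
      (fun {_} _ _ _ => True) (fun W' f _ => ⟨ProEtS.topP X,
        MorphismProperty.Over.homMk (pullback.lift (W'.hom ≫ i) W'.hom (Category.comp_id _))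
          (pullback.lift_snd _ _ _) trivial, trivial⟩)
    choose V h e hVa hVw hVs _ using fun k =>
      haveI := (hW' k).1; haveI := (hW' k).2.2; exists_lift i (hW' k).2.1 (b k)
    refine ⟨κ, inferInstance, V, fun k => (e k).inv ≫ w k, fun k => ⟨hVa k, hVw k, hVs k⟩, ?_⟩
    obtain ⟨n, ⟨eκ⟩⟩ := Finite.exists_equiv_fin κ
    haveI : ∀ k : Fin n, IsAffine ((ProEtS.bcP i).obj (V (eκ.symm k))).left := fun k =>
      haveI := hVa (eκ.symm k); isAffine_bcP i _
    refine (Scheme.ProEt.topology Z).superset_covering ?_ (H26ProEt.mem_topology_of_finite_affine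
      (fun k => (ProEtS.bcP i).obj (V (eκ.symm k))) (fun k => (e (eκ.symm k)).inv ≫ w (eκ.symm k)) fun x => ?_)
    · rw [Sieve.ofArrows, Sieve.generate_le_iff, Presieve.ofArrows_le_iff]
      exact fun k => ⟨_, 𝟙 _, _, ⟨eκ.symm k⟩, Category.id_comp _⟩
    · obtain ⟨k, y, hy⟩ := hs x
      obtain ⟨m', rfl⟩ := eκ.symm.surjective k
      refine ⟨m', (e _).hom.left y, ?_⟩
      rw [← hy]
      exact congrArg (fun r => r.left y) ((e (eκ.symm m')).hom_inv_id_assoc (w _))
  choose κ _ V w hV hcov' using hsmall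
  refine ⟨Σ m, κ m, fun p => V p.1 p.2, fun p => w p.1 p.2 ≫ w₀ p.1, fun p => hV p.1 p.2, ?_⟩
  refine (Scheme.ProEt.topology Z).transitive hcov _ ?_
  rintro W₁ f ⟨_, a, _, ⟨m⟩, rfl⟩
  rw [Sieve.pullback_comp]
  refine (Scheme.ProEt.topology Z).pullback_stable a ((Scheme.ProEt.topology Z).superset_covering ?_ (hcov' m))
  rintro W₂ f' ⟨_, a', _, ⟨k⟩, rfl⟩
  exact ⟨_, a', _, Presieve.ofArrows.mk (⟨m, k⟩ : Σ m, κ m), (Category.assoc _ _ _).symm⟩

/-- Isomorphisms are detected on base changes of henselian weakly contractible objects. -/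
theorem isIso_of_bijective {A B : ProEtS.AbP Z} (ψ : A ⟶ B)
    (h : ∀ V : X.ProEt, IsAffine V.left → ProEtS.IsWC V → SpecializesInto i V →
      Function.Bijective (ψ.hom.app (op ((ProEtS.bcP i).obj V)))) : IsIso ψ := by
  refine (Sheaf.isLocallyBijective_iff_isIso ψ).1 ⟨⟨fun {U} x y hxy => ?_⟩, ⟨fun {U} s => ?_⟩⟩
  · obtain ⟨κ, V, w, hV, hcov⟩ := exists_hen_cover i U.unop
    refine (Scheme.ProEt.topology Z).superset_covering ?_ hcov
    rw [Sieve.ofArrows, Sieve.generate_le_iff, Presieve.ofArrows_le_iff]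
    intro k
    refine (h (V k) (hV k).1 (hV k).2.1 (hV k).2.2).1 ?_
    show ψ.hom.app _ (A.obj.map (w k).op x) = ψ.hom.app _ (A.obj.map (w k).op y)
    rw [NatTrans.naturality_apply, NatTrans.naturality_apply]
    exact congrArg _ hxy
  · obtain ⟨κ, V, w, hV, hcov⟩ := exists_hen_cover i U
    refine (Scheme.ProEt.topology Z).superset_covering ?_ hcov
    rw [Sieve.ofArrows, Sieve.generate_le_iff, Presieve.ofArrows_le_iff]
    intro k
    exact (h (V k) (hV k).1 (hV k).2.1 (hV k).2.2).2 _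

variable [ProEtS.PCont i]

theorem isIso_counit (F : ProEtS.AbP Z) : IsIso ((ProEtS.pullPushAdjP i).counit.app F) := by
  refine isIso_of_bijective i _ fun V hVa hVw hV => ?_
  haveI := hVa
  have hη := el_bijective i ((ProEtS.pushP i).obj F) hVw hV
  have ht : ∀ x, ((ProEtS.pullPushAdjP i).counit.app F).hom.app (op ((ProEtS.bcP i).obj V))
      (ηP i ((ProEtS.pushP i).obj F) V x) = x := fun x =>
    ConcreteCategory.congr_hom (NatTrans.congr_app
      (congrArg (fun q => q.hom) ((ProEtS.pullPushAdjP i).right_triangle_components F)) (op V)) x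
  refine ⟨fun a b hab => ?_, fun x => ⟨_, ht x⟩⟩
  obtain ⟨a, rfl⟩ := hη.2 a
  obtain ⟨b, rfl⟩ := hη.2 b
  exact congrArg _ ((ht a).symm.trans (hab.trans (ht b)))

theorem preservesLimitsOfShape_pullP (J : Type u) [SmallCategory J] :
    PreservesLimitsOfShape J (ProEtS.pullP i) := by
  refine ⟨fun {K} => ⟨fun {c} hc => ?_⟩⟩
  let F := ProEtS.pullP i
  let φ := limit.lift (K ⋙ F) (F.mapCone c)
  suffices IsIso φ from ⟨IsLimit.ofPointIso (limit.isLimit (K ⋙ F)) (i := this)⟩
  refine isIso_of_bijective i φ fun V hVa hVw hV => ?_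
  haveI := hVa
  let G : ProEtS.AbP Z ⥤ AddCommGrpCat.{u + 1} :=
    sheafToPresheaf _ _ ⋙ (evaluation _ _).obj (op ((ProEtS.bcP i).obj V))
  let G₀ : ProEtS.AbP X ⥤ AddCommGrpCat.{u + 1} := sheafToPresheaf _ _ ⋙ (evaluation _ _).obj (op V)
  haveI : ∀ H : ProEtS.AbP X, IsIso (((ProEtS.pullPushAdjP i).unit.app H).hom.app (op V)) := fun H =>
    (ConcreteCategory.isIso_iff_bijective _).2 (el_bijective i H hVw hV)
  let e : G₀ ≅ F ⋙ G := NatIso.ofComponents
    (fun H => asIso (((ProEtS.pullPushAdjP i).unit.app H).hom.app (op V))) fun {H H'} f =>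
      NatTrans.congr_app (congrArg (fun q => q.hom) ((ProEtS.pullPushAdjP i).unit.naturality f)) (op V)
  haveI : PreservesLimit K G₀ := inferInstance
  haveI : PreservesLimit K (F ⋙ G) := preservesLimit_of_natIso K e
  have h1 : IsLimit (G.mapCone (F.mapCone c)) := isLimitOfPreserves (F ⋙ G) hc
  have h2 : IsLimit (G.mapCone (limit.cone (K ⋙ F))) := isLimitOfPreserves G (limit.isLimit _)
  have h3 : G.map φ = (h1.conePointUniqueUpToIso h2).hom := h2.hom_ext fun j => by
    rw [IsLimit.conePointUniqueUpToIso_hom_comp]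
    show G.map φ ≫ G.map (limit.π (K ⋙ F) j) = G.map (F.map (c.π.app j))
    rw [← G.map_comp, limit.lift_π]
    rfl
  haveI : IsIso (G.map φ) := h3 ▸ inferInstance
  exact (ConcreteCategory.isIso_iff_bijective (G.map φ)).1 inferInstance

end Groth.Agent.H1Closed
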