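import Groth.Agent.H1Closed.Ring
import Groth.Agent.H18Et.TopInvLocal
import Groth.Agent.H18Et.PtColimTensor
import Groth.Agent.H7Lim.Chevalley
import Groth.Agent.S7286

/-!
# Lifts of w-contractible algebras along universal homeomorphisms
-/

set_option autoImplicit false
set_option backward.isDefEq.respectTransparency false
set_option linter.style.haveILetI false

universe u

open CategoryTheory CategoryTheory.Limits AlgebraicGeometry

namespace Groth.Agent.H1Closed

open TensorProduct

/-- An integral, universally injective, surjective ring map. -/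
abbrev UH (A B : Type u) [CommRing A] [CommRing B] [Algebra A B] : Prop :=
  IsIntegralHom (Spec.map (CommRingCat.ofHom (algebraMap A B))) ∧
    UniversallyInjective (Spec.map (CommRingCat.ofHom (algebraMap A B))) ∧
    Surjective (Spec.map (CommRingCat.ofHom (algebraMap A B)))

variable {A B : Type u} [CommRing A] [CommRing B] [Algebra A B]

theorem UH.baseChange (hf : UH A B) (T : Type u) [CommRing T] [Algebra A T] :
    letI : Algebra T (B ⊗[A] T) := Algebra.TensorProduct.rightAlgebra
    UH T (B ⊗[A] T) := by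
  letI : Algebra T (B ⊗[A] T) := Algebra.TensorProduct.rightAlgebra
  let f := Spec.map (CommRingCat.ofHom (algebraMap A B))
  let k := Spec.map (CommRingCat.ofHom (algebraMap A T))
  obtain ⟨h1, h2, h3⟩ := hf
  haveI : UniversallyInjective (pullback.snd f k) :=
    MorphismProperty.of_isPullback (P := @UniversallyInjective) (IsPullback.of_hasPullback f k) h2
  haveI : IsIntegralHom (pullback.snd f k) := inferInstance
  haveI : Surjective (pullback.snd f k) := inferInstance
  have e : (pullbackSpecIso A B T).inv ≫ pullback.snd f k =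
      Spec.map (CommRingCat.ofHom (algebraMap T (B ⊗[A] T))) := pullbackSpecIso_inv_snd A B T
  unfold UH
  rw [← e]
  exact ⟨inferInstance, MorphismProperty.comp_mem _ _ _ inferInstance ‹_›, inferInstance⟩

/-- Topological invariance of etale algebras. -/
theorem exists_etale_descend (hf : UH A B) (D : Type u) [CommRing D] [Algebra B D] [Algebra.Etale B D] :
    ∃ (E : Type u) (_ : CommRing E) (_ : Algebra A E) (_ : Algebra.Etale A E),
      Nonempty (B ⊗[A] E ≃ₐ[B] D) := by
  let g := Spec.map (CommRingCat.ofHom (algebraMap A B))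
  haveI : IsIntegralHom g := hf.1
  haveI : UniversallyInjective g := hf.2.1
  haveI : Surjective g := hf.2.2
  let p := Spec.map (CommRingCat.ofHom (algebraMap B D))
  have hp : Etale p := (HasRingHomProperty.Spec_iff (P := @Etale)).mpr (RingHom.etale_algebraMap.mpr ‹_›)
  let U₀ : (Spec (CommRingCat.of B)).Etale := MorphismProperty.Over.mk ⊤ p hp
  haveI := H18Et.TopInvLocal.bc_isEquivalence g
  let W := (EtCoh.bc g).objPreimage U₀
  let e : (EtCoh.bc g).obj W ≅ U₀ := (EtCoh.bc g).objObjPreimageIso U₀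
  let e₁ : pullback W.hom g ≅ Spec (CommRingCat.of D) :=
    (MorphismProperty.Over.forget _ _ _ ⋙ Over.forget _).mapIso e
  have he₁ : e₁.hom ≫ p = pullback.snd W.hom g := MorphismProperty.Over.w e.hom
  haveI : IsAffine (pullback W.hom g) := IsAffine.of_isIso e₁.hom
  haveI : IsAffine W.left :=
    H7Lim.Chevalley.isAffine_of_universallyClosed_surjective (pullback.fst W.hom g)
  haveI : Etale W.hom := W.prop
  let φ : CommRingCat.of A ⟶ Γ(W.left, ⊤) := Spec.preimage (W.left.isoSpec.inv ≫ W.hom)
  letI : Algebra A Γ(W.left, ⊤) := φ.hom.toAlgebra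
  let k := Spec.map (CommRingCat.ofHom (algebraMap A Γ(W.left, ⊤)))
  have hk : k = W.left.isoSpec.inv ≫ W.hom := Spec.map_preimage _
  haveI : Algebra.Etale A Γ(W.left, ⊤) := by
    rw [← RingHom.etale_algebraMap]
    refine (HasRingHomProperty.Spec_iff (P := @Etale) (φ := CommRingCat.ofHom (algebraMap A Γ(W.left, ⊤)))).mp ?_
    show Etale k
    rw [hk]
    infer_instance
  let m : pullback g k ⟶ pullback g W.hom :=
    pullback.map _ _ _ _ (𝟙 _) W.left.isoSpec.inv (𝟙 _) (by simp) (by simp [hk])
  let θ : Spec (CommRingCat.of (B ⊗[A] Γ(W.left, ⊤))) ⟶ Spec (CommRingCat.of D) :=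
    (pullbackSpecIso A B Γ(W.left, ⊤)).inv ≫ m ≫ (pullbackSymmetry _ _).hom ≫ e₁.hom
  have hθ : θ ≫ p = Spec.map (CommRingCat.ofHom (algebraMap B (B ⊗[A] Γ(W.left, ⊤)))) := by
    simp only [θ, m, Category.assoc, he₁, pullbackSymmetry_hom_comp_snd, pullback.lift_fst,
      pullback.map, Category.comp_id]
    exact pullbackSpecIso_inv_fst A B _
  haveI : IsIso (Spec.map (Spec.preimage θ)) := by rw [Spec.map_preimage]; infer_instance
  haveI : IsIso (Spec.preimage θ) := by
    haveI : IsIso (Scheme.Spec.map (Spec.preimage θ).op) := ‹IsIso (Spec.map (Spec.preimage θ))›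
    haveI := isIso_of_reflects_iso (Spec.preimage θ).op Scheme.Spec
    exact isIso_of_op _
  have hcomm : CommRingCat.ofHom (algebraMap B D) ≫ Spec.preimage θ =
      CommRingCat.ofHom (algebraMap B (B ⊗[A] Γ(W.left, ⊤))) :=
    Spec.map_injective (by rw [Spec.map_comp, Spec.map_preimage]; exact hθ)
  exact ⟨Γ(W.left, ⊤), inferInstance, inferInstance, inferInstance,
    ⟨(AlgEquiv.ofRingEquiv (f := (asIso (Spec.preimage θ)).commRingCatIsoToRingEquiv) fun b =>
      ConcreteCategory.congr_hom hcomm b).symm⟩⟩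

variable {Cb : Type u} [CommRing Cb] [Algebra B Cb] [Algebra A Cb] [IsScalarTower A B Cb]

/-- The comparison map of a lift. -/
noncomputable abbrev cmp {H : Type u} [CommRing H] [Algebra A H] (π : H →ₐ[A] Cb) : B ⊗[A] H →ₐ[B] Cb :=
  Algebra.TensorProduct.lift (Algebra.ofId B Cb) π fun _ _ => Commute.all _ _

theorem cmp_map {H E : Type u} [CommRing H] [Algebra A H] [CommRing E] [Algebra A E] (π : H →ₐ[A] Cb)
    (φ : E →ₐ[A] H) : (cmp (B := B) π).comp (Algebra.TensorProduct.map (AlgHom.id B B) φ) =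
      cmp (B := B) (π.comp φ) := by
  refine Algebra.TensorProduct.ext (AlgHom.ext fun b => ?_) (AlgHom.ext fun x => ?_) <;> simp [cmp]

theorem cmp_bijective (hf : UH A B) (h : EtPBC.IsIndEtale B Cb) {H : Type u} [CommRing H] [Algebra A H]
    {π : H →ₐ[A] Cb} (hH : H9Hens.IsPtColim π) : Function.Bijective (cmp (B := B) π) := by
  refine ⟨(injective_iff_map_eq_zero (cmp (B := B) π)).2 fun z hz => ?_, fun c => ?_⟩
  · obtain ⟨T, _, _, _, -, φT, -, w, rfl⟩ :=
      H18Et.PtColimTensor.exists_lTensor_eq B hH z A (Algebra.ofId A H)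
    let mT := Algebra.TensorProduct.map (AlgHom.id B B) φT
    have hlin : ∀ v : B ⊗[A] T, φT.toLinearMap.lTensor B v = mT v := fun v => by
      induction v with
      | zero => simp
      | tmul b t => simp [mT]
      | add x y hx hy => simp [hx, hy]
    rw [hlin] at hz ⊢
    let σb := cmp (B := B) (π.comp φT)
    have hσ : σb w = 0 := by
      show cmp (B := B) (π.comp φT) w = 0
      rw [← cmp_map]
      exact hz
    let J : Ideal (B ⊗[A] T) := Ideal.span {w}
    haveI : Algebra.FinitePresentation B ((B ⊗[A] T) ⧸ J) :=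
      Algebra.FinitePresentation.quotient (Submodule.fg_span_singleton _)
    let σq : ((B ⊗[A] T) ⧸ J) →ₐ[B] Cb := Ideal.Quotient.liftₐ J σb fun a ha => by
      obtain ⟨d, rfl⟩ := Ideal.mem_span_singleton'.1 ha
      rw [map_mul, hσ, mul_zero]
    obtain ⟨D, _, _, _, g, k, hgk⟩ := H1CAlg.IndEtale.factors_of_isIndEtale h _ σq
    let gE : B ⊗[A] T →ₐ[B] D := g.comp (Ideal.Quotient.mkₐ B J)
    have hgE : k.comp gE = σb := by
      rw [← AlgHom.comp_assoc, hgk]
      exact Ideal.Quotient.liftₐ_comp _ _ _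
    have hgw : gE w = 0 := by
      show g (Ideal.Quotient.mkₐ B J w) = 0
      rw [Ideal.Quotient.mkₐ_eq_mk, Ideal.Quotient.eq_zero_iff_mem.2 (Ideal.mem_span_singleton_self _),
        map_zero]
    letI : Algebra (B ⊗[A] T) D := gE.toRingHom.toAlgebra
    haveI : IsScalarTower B (B ⊗[A] T) D := IsScalarTower.of_algebraMap_eq fun a => (gE.commutes a).symm
    haveI : Algebra.Etale (B ⊗[A] T) D := Algebra.Etale.of_restrictScalars B (B ⊗[A] T) D
    letI : Algebra T (B ⊗[A] T) := Algebra.TensorProduct.rightAlgebra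
    obtain ⟨E₃, _, _, _, ⟨e₃⟩⟩ := exists_etale_descend (hf.baseChange T) D
    letI : Algebra A E₃ := ((algebraMap T E₃).comp (algebraMap A T)).toAlgebra
    haveI : IsScalarTower A T E₃ := IsScalarTower.of_algebraMap_eq fun _ => rfl
    haveI : Algebra.Etale A E₃ := Algebra.Etale.comp A T E₃
    let q : E₃ →+* D := e₃.toRingEquiv.toRingHom.comp
      (Algebra.TensorProduct.includeRight : E₃ →ₐ[T] (B ⊗[A] T) ⊗[T] E₃).toRingHom
    have hq : ∀ t : T, q (algebraMap T E₃ t) = gE (1 ⊗ₜ t) := fun t => by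
      show e₃ (1 ⊗ₜ[T] algebraMap T E₃ t) = _
      rw [← Algebra.TensorProduct.algebraMap_apply' t,
        IsScalarTower.algebraMap_apply T (B ⊗[A] T) ((B ⊗[A] T) ⊗[T] E₃) t, e₃.commutes]
      rfl
    let σ₃ : E₃ →ₐ[A] Cb :=
      { toRingHom := k.toRingHom.comp q
        commutes' := fun a => by
          show k (q (algebraMap T E₃ (algebraMap A T a))) = _
          rw [hq, ← AlgHom.comp_apply, hgE]
          show cmp (B := B) (π.comp φT) (1 ⊗ₜ algebraMap A T a) = _
          simp [cmp] }
    let χ : T →ₐ[A] E₃ := IsScalarTower.toAlgHom A T E₃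
    obtain ⟨φ₃, hφ₃⟩ := hH.exists_map E₃ σ₃
    have h1 : φ₃.comp χ = φT := hH.hom_ext (AlgHom.ext fun t => by
      rw [← AlgHom.comp_assoc, hφ₃]
      show k (q (algebraMap T E₃ t)) = π (φT t)
      rw [hq, ← AlgHom.comp_apply, hgE]
      simp [σb, cmp])
    let m₃ := Algebra.TensorProduct.map (AlgHom.id B B) χ
    letI : Algebra T (B ⊗[A] E₃) :=
      ((Algebra.TensorProduct.includeRight : E₃ →ₐ[A] B ⊗[A] E₃).toRingHom.comp (algebraMap T E₃)).toAlgebra
    let l₁ : B ⊗[A] T →ₐ[T] B ⊗[A] E₃ := { m₃.toRingHom with commutes' := fun t => by simp [m₃, χ]; rfl }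
    let l₂ : E₃ →ₐ[T] B ⊗[A] E₃ :=
      { (Algebra.TensorProduct.includeRight : E₃ →ₐ[A] B ⊗[A] E₃).toRingHom with commutes' := fun t => rfl }
    let j : (B ⊗[A] T) ⊗[T] E₃ →ₐ[T] B ⊗[A] E₃ :=
      Algebra.TensorProduct.lift l₁ l₂ fun _ _ => Commute.all _ _
    have h2 : (w ⊗ₜ[T] (1 : E₃)) = 0 := by
      apply e₃.injective
      rw [map_zero, show w ⊗ₜ[T] (1 : E₃) = algebraMap (B ⊗[A] T) ((B ⊗[A] T) ⊗[T] E₃) w from rfl,
        e₃.commutes]
      exact hgw
    have h3 : m₃ w = 0 := by
      have h4 := congrArg j h2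
      rw [map_zero, Algebra.TensorProduct.lift_tmul, map_one, mul_one] at h4
      exact h4
    have h5 : mT = (Algebra.TensorProduct.map (AlgHom.id B B) φ₃).comp m₃ := by
      rw [← Algebra.TensorProduct.map_comp]
      simp only [mT, h1, AlgHom.id_comp]
    rw [h5, AlgHom.comp_apply, h3, map_zero]
  · obtain ⟨D, _, _, _, g, k, hgk⟩ :=
      H1CAlg.IndEtale.factors_of_isIndEtale h (Polynomial B) (Polynomial.aeval c)
    obtain ⟨E, _, _, _, ⟨e⟩⟩ := exists_etale_descend hf D
    let σ : E →ₐ[A] Cb :=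
      ((k.comp e.toAlgHom).restrictScalars A).comp Algebra.TensorProduct.includeRight
    obtain ⟨φ, hφ⟩ := hH.exists_map E σ
    refine ⟨Algebra.TensorProduct.map (AlgHom.id B B) φ (e.symm (g Polynomial.X)), ?_⟩
    have h1 : cmp (B := B) σ = k.comp e.toAlgHom := by
      refine Algebra.TensorProduct.ext (AlgHom.ext fun b => ?_) (AlgHom.ext fun x => ?_)
      · exact ((cmp (B := B) σ).commutes b).trans ((k.comp e.toAlgHom).commutes b).symm
      · simp [cmp, σ]
    rw [← AlgHom.comp_apply, cmp_map, hφ, h1]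
    show k (e (e.symm _)) = c
    rw [e.apply_symm_apply, ← AlgHom.comp_apply, hgk, Polynomial.aeval_X]

theorem isWContractible_of_uhomeo {H C : Type u} [CommRing H] [CommRing C] [Algebra H C] (hf : UH H C)
    (h : EtPBC.IsWContractible C) : EtPBC.IsWContractible H := by
  obtain ⟨⟨-, hcl, huniq⟩, hED, -⟩ := (Groth.Agent.S0677.result C).1 h
  let f := Spec.map (CommRingCat.ofHom (algebraMap H C))
  haveI : IsIntegralHom f := hf.1
  haveI : UniversallyInjective f := hf.2.1
  haveI : Surjective f := hf.2.2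
  let φ : PrimeSpectrum C ≃ₜ PrimeSpectrum H :=
    (Equiv.ofBijective (PrimeSpectrum.comap (algebraMap H C))
      ⟨f.injective, f.surjective⟩).toHomeomorphOfContinuousClosed
      (PrimeSpectrum.continuous_comap _) f.isClosedMap
  have hpt : ∀ y : PrimeSpectrum C, IsClosed ({φ y} : Set (PrimeSpectrum H)) ↔ IsClosed ({y} : Set _) :=
    fun y => by rw [← Set.image_singleton, φ.isClosed_image]
  have hw : ProEtW.IsWLocal (PrimeSpectrum H) := by
    refine ⟨inferInstance, ?_, fun x => ?_⟩
    · convert φ.isClosed_image.2 hcl using 1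
      ext x
      obtain ⟨y, rfl⟩ := φ.surjective x
      simp [hpt]
    · obtain ⟨y, rfl⟩ := φ.surjective x
      obtain ⟨z, ⟨hz, hyz⟩, hu⟩ := huniq y
      refine ⟨φ z, ⟨(hpt z).2 hz, hyz.map φ.continuous⟩, ?_⟩
      rintro w ⟨hw, hyw⟩
      obtain ⟨z', rfl⟩ := φ.surjective w
      exact congrArg φ (hu z' ⟨(hpt z').1 hw, φ.isInducing.specializes_iff.1 hyw⟩)
  have hret : ProEtW.HasEtaleRetractions H := by
    intro E _ _ hff het
    haveI := hff
    haveI := het
    obtain ⟨r⟩ := h (C ⊗[H] E) inferInstance inferInstance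
    let σ : E →ₐ[H] C := (r.restrictScalars H).comp Algebra.TensorProduct.includeRight
    let q := Spec.map (CommRingCat.ofHom (algebraMap H E))
    haveI : Etale q := (HasRingHomProperty.Spec_iff (P := @Etale)).mpr (RingHom.etale_algebraMap.mpr het)
    obtain ⟨s, hs, -⟩ := H18Et.TopInv.exists_section q f (Spec.map (CommRingCat.ofHom σ.toRingHom)) (by
      rw [← Spec.map_comp]
      exact congrArg Spec.map (CommRingCat.hom_ext σ.comp_algebraMap))
    have hc : CommRingCat.ofHom (algebraMap H E) ≫ Spec.preimage s = 𝟙 _ :=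
      Spec.map_injective (by rw [Spec.map_comp, Spec.map_preimage, Spec.map_id]; exact hs)
    exact ⟨{ (Spec.preimage s).hom with commutes' := fun a => ConcreteCategory.congr_hom hc a }⟩
  refine (Groth.Agent.S0677.result H).2 ⟨hw, ?_, fun m _ => Groth.Agent.S0675.result H hret m⟩
  haveI := hED
  let a := φ.continuous.connectedComponentsMap
  let b := φ.symm.continuous.connectedComponentsMap
  let ψ : _root_.ConnectedComponents (PrimeSpectrum C) ≃ₜ _root_.ConnectedComponents (PrimeSpectrum H) :=
    { toFun := a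
      invFun := b
      left_inv := fun x => by
        obtain ⟨x, rfl⟩ := ConnectedComponents.surjective_coe x
        exact congrArg _ (φ.symm_apply_apply x)
      right_inv := fun x => by
        obtain ⟨x, rfl⟩ := ConnectedComponents.surjective_coe x
        exact congrArg _ (φ.apply_symm_apply x)
      continuous_toFun := φ.continuous.connectedComponentsMap_continuous
      continuous_invFun := φ.symm.continuous.connectedComponentsMap_continuous }
  exact extremallyDisconnected_of_homeo ψ

/-- Lifts of w-contractible algebras along universal homeomorphisms. -/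
theorem exists_wc_lift_uhomeo (hf : UH A B) [Algebra.WeaklyEtale B Cb] (hwc : EtPBC.IsWContractible Cb) :
    ∃ (H : Type u) (_ : CommRing H) (_ : Algebra A H) (π : H →ₐ[A] Cb),
      Algebra.WeaklyEtale A H ∧ EtPBC.IsWContractible H ∧ Function.Bijective (cmp (B := B) π) := by
  obtain ⟨H, _, _, π, hH⟩ := H9Hens.exists_isPtColim (A := A) (k := Cb)
  have hb := cmp_bijective hf (isIndEtale_of_wc hwc) hH
  letI : Algebra H (B ⊗[A] H) := Algebra.TensorProduct.rightAlgebra
  exact ⟨H, inferInstance, inferInstance, π, H1CAlg.IndEtale.weaklyEtale_of_isIndEtale hH.isIndEtale,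
    isWContractible_of_uhomeo (hf.baseChange H) (S7286.isWContractible_of_ringEquiv
      (RingEquiv.ofBijective (cmp (B := B) π).toRingHom hb).symm hwc), hb⟩

end Groth.Agent.H1Closed
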