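import Groth.Agent.H1Closed.Lift
import Groth.Agent.H1Closed.UHomeoRing

/-!
# Lifts of weakly contractible objects along universal homeomorphisms
-/

set_option autoImplicit false
set_option backward.isDefEq.respectTransparency false
set_option linter.style.haveILetI false

universe u

open CategoryTheory CategoryTheory.Limits AlgebraicGeometry Opposite

namespace Groth.Agent.H1Closed

theorem isoSpec_inv_appTop (V : Scheme.{u}) [IsAffine V] :
    V.isoSpec.inv.appTop = (Scheme.ΓSpecIso Γ(V, ⊤)).inv := by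
  rw [← cancel_mono (Scheme.ΓSpecIso Γ(V, ⊤)).hom, Iso.inv_hom_id,
    ← Scheme.toSpecΓ_appTop, ← Scheme.Hom.comp_appTop]
  exact (congrArg Scheme.Hom.appTop V.isoSpec.hom_inv_id).trans Scheme.Hom.id_appTop

variable {Z X : Scheme.{u}} (i : Z ⟶ X) [IsIntegralHom i] [UniversallyInjective i] [Surjective i]

theorem isAffine_bcP_of_uhomeo (V : X.ProEt) [IsAffine V.left] : IsAffine ((ProEtS.bcP i).obj V).left := by
  haveI : IsIntegralHom (pullback.fst V.hom i) := MorphismProperty.pullback_fst _ _ inferInstance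
  haveI : IsAffine ((𝟭 Scheme).obj V.left :) := ‹IsAffine V.left›
  exact isAffine_of_isAffineHom (pullback.fst V.hom i)

theorem exists_lift_of_uhomeo {V : X.ProEt} [IsAffine V.left] {W : Z.ProEt} [IsAffine W.left]
    (hW : ProEtS.IsWC W) (a : W ⟶ (ProEtS.bcP i).obj V) :
    ∃ (V' : X.ProEt) (h : V' ⟶ V) (e : W ≅ (ProEtS.bcP i).obj V'),
      IsAffine V'.left ∧ ProEtS.IsWC V' ∧ SpecializesInto i V' ∧ e.hom ≫ (ProEtS.bcP i).map h = a := by
  let Vb := ((ProEtS.bcP i).obj V).left
  haveI : IsAffine Vb := isAffine_bcP_of_uhomeo i V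
  haveI : IsAffine ((𝟭 Scheme).obj V.left :) := ‹IsAffine V.left›
  let g : Vb ⟶ V.left := pullback.fst V.hom i
  haveI : IsIntegralHom g := MorphismProperty.pullback_fst _ _ inferInstance
  haveI : UniversallyInjective g :=
    MorphismProperty.of_isPullback (P := @UniversallyInjective) (IsPullback.of_hasPullback V.hom i).flip ‹_›
  haveI : Surjective g := inferInstanceAs (Surjective (pullback.fst V.hom i))
  let A : CommRingCat.{u} := Γ(V.left, ⊤)
  let B : CommRingCat.{u} := Γ(Vb, ⊤)
  let Cb : CommRingCat.{u} := Γ(W.left, ⊤)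
  letI : Algebra A B := g.appTop.hom.toAlgebra
  letI : Algebra B Cb := a.left.appTop.hom.toAlgebra
  letI : Algebra A Cb := (g.appTop ≫ a.left.appTop).hom.toAlgebra
  haveI : IsScalarTower A B Cb := IsScalarTower.of_algebraMap_eq fun x => rfl
  have hg : Spec.map g.appTop = Vb.isoSpec.inv ≫ g ≫ V.left.isoSpec.hom := by
    rw [← Scheme.isoSpec_hom_naturality, Iso.inv_hom_id_assoc]
  have hf : UH A B := by
    show IsIntegralHom (Spec.map g.appTop) ∧ UniversallyInjective (Spec.map g.appTop) ∧
      Surjective (Spec.map g.appTop)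
    rw [hg]
    exact ⟨inferInstance, MorphismProperty.comp_mem _ _ _ inferInstance
      (MorphismProperty.comp_mem _ _ _ ‹UniversallyInjective g› inferInstance), inferInstance⟩
  haveI : Algebra.WeaklyEtale B Cb := (H26ProEt.weaklyEtale_SpecMap_iff _ _).1 (by
    haveI := weaklyEtale_left' a
    show WeaklyEtale (Spec.map a.left.appTop)
    rw [show Spec.map a.left.appTop = W.left.isoSpec.inv ≫ a.left ≫ Vb.isoSpec.hom by
      rw [← Scheme.isoSpec_hom_naturality, Iso.inv_hom_id_assoc]]
    infer_instance)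
  have hwc : EtPBC.IsWContractible Cb := H26ProEt.splits_iff.2 (H26ProEt.splits_of_isWC hW)
  obtain ⟨H, _, _, π, hwe, hHwc, hb⟩ := exists_wc_lift_uhomeo hf (Cb := Cb) hwc
  let σ : A ⟶ CommRingCat.of H := CommRingCat.ofHom (algebraMap A H)
  let φ : CommRingCat.of H ⟶ Cb := CommRingCat.ofHom π.toRingHom
  haveI : WeaklyEtale (Spec.map σ) := (H26ProEt.weaklyEtale_SpecMap_iff A H).2 hwe
  let V' : X.ProEt := Scheme.ProEt.mk (Spec.map σ ≫ V.left.isoSpec.inv ≫ V.hom)
  let h : V' ⟶ V := MorphismProperty.Over.homMk (Spec.map σ ≫ V.left.isoSpec.inv) (Category.assoc _ _ _) trivial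
  haveI hV' : IsAffine V'.left := inferInstanceAs (IsAffine (Spec (CommRingCat.of H)))
  have hpo : IsPushout g.appTop σ a.left.appTop φ :=
    (CommRingCat.isPushout_tensorProduct A B H).of_iso (Iso.refl _) (Iso.refl _) (Iso.refl _)
      (RingEquiv.ofBijective (cmp (B := B) π).toRingHom hb).toCommRingCatIso
      (by simp; rfl) (by simp; rfl)
      (CommRingCat.hom_ext (RingHom.ext fun b => by
        show cmp (B := B) π (b ⊗ₜ 1) = algebraMap B Cb b
        simp [cmp]))
      (CommRingCat.hom_ext (RingHom.ext fun b => by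
        show cmp (B := B) π (1 ⊗ₜ b) = π b
        simp [cmp]))
  let w : W.left ⟶ V'.left := W.left.isoSpec.hom ≫ Spec.map φ
  have sq : IsPullback w a.left h.left g := by
    refine (isPullback_SpecMap_of_isPushout _ _ _ _ hpo).flip.of_iso W.left.isoSpec.symm (Iso.refl _)
      Vb.isoSpec.symm V.left.isoSpec.symm ?_ ?_ ?_ ?_
    · show Spec.map φ ≫ 𝟙 _ = W.left.isoSpec.inv ≫ w
      simp [w]
    · show Spec.map a.left.appTop ≫ Vb.isoSpec.inv = W.left.isoSpec.inv ≫ a.left
      exact Scheme.isoSpec_inv_naturality a.left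
    · show Spec.map σ ≫ V.left.isoSpec.inv = 𝟙 _ ≫ h.left
      exact (Category.id_comp _).symm
    · show Spec.map g.appTop ≫ V.left.isoSpec.inv = Vb.isoSpec.inv ≫ g
      exact Scheme.isoSpec_inv_naturality g
  have hbig : IsPullback w W.hom V'.hom i := by
    have := sq.paste_vert (IsPullback.of_hasPullback V.hom i)
    rw [show h.left ≫ V.hom = V'.hom from MorphismProperty.Over.w h,
      show a.left ≫ pullback.snd V.hom i = W.hom from MorphismProperty.Over.w a] at this
    exact this
  let e : W ≅ (ProEtS.bcP i).obj V' :=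
    MorphismProperty.Over.isoMk hbig.isoPullback (hbig.isoPullback_hom_snd)
  refine ⟨V', h, e, hV', H26ProEt.isWC_of_refines (H26ProEt.refines_of_splits (H26ProEt.splits_iff.1
    (S7286.isWContractible_of_ringEquiv (Scheme.ΓSpecIso (CommRingCat.of H)).commRingCatIsoToRingEquiv.symm hHwc))),
    fun v => ⟨v, i.surjective _, specializes_rfl⟩, MorphismProperty.Over.Hom.ext (pullback.hom_ext ?_ ?_)⟩
  · show (e.hom.left ≫ ((ProEtS.bcP i).map h).left) ≫ pullback.fst V.hom i = a.left ≫ g
    rw [Category.assoc, show ((ProEtS.bcP i).map h).left ≫ pullback.fst V.hom i =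
      pullback.fst V'.hom i ≫ h.left from pullback.lift_fst _ _ _, ← Category.assoc]
    exact (congrArg (· ≫ h.left) hbig.isoPullback_hom_fst).trans sq.w
  · exact (MorphismProperty.Over.w (e.hom ≫ (ProEtS.bcP i).map h)).trans (MorphismProperty.Over.w a).symm

theorem hasLifts_of_uhomeo : HasLifts i where
  isAffine := isAffine_bcP_of_uhomeo i
  lift := exists_lift_of_uhomeo i

end Groth.Agent.H1Closed
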