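import Groth.Prelude.Def_ProEtS
import Groth.Agent.H15Site.ClosedPushAb
import Mathlib.CategoryTheory.Sites.CoverLifting
import Mathlib.CategoryTheory.Adjunction.Triple

/-!
# The small pro-etale site inside the big one
-/

set_option autoImplicit false
set_option backward.isDefEq.respectTransparency false
set_option linter.style.haveILetI false

universe u

open CategoryTheory CategoryTheory.Limits AlgebraicGeometry Opposite

namespace Groth.Agent.H1Closed

variable (S : Scheme.{u})

theorem isCocontinuous_forget :
    (Scheme.ProEt.forget S).IsCocontinuous (Scheme.ProEt.topology S) (Scheme.proetaleTopology.over S) := by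
  haveI : (Scheme.ProEt.forget S).IsContinuous
      ((Scheme.ProEt.forget S).restrictedTopology (Scheme.proetaleTopology.over S)) (Scheme.proetaleTopology.over S) := by
    rw [Functor.isContinuous_iff_coverPreserving]
    exact (Scheme.ProEt.forget S).coverPreserving_restrictedTopology _
  rw [Scheme.ProEt.topology_eq_inducedTopology, ← Functor.restrictedTopology_eq_inducedTopology]
  infer_instance

theorem unit_iso_and_acyclic
    [((Scheme.ProEt.forget S).sheafPushforwardContinuous AddCommGrpCat.{u + 1} (Scheme.ProEt.topology S)
      (Scheme.proetaleTopology.over S)).Additive]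
    [HasInjectiveResolutions (Sheaf (Scheme.proetaleTopology.over S) AddCommGrpCat.{u + 1})]
    (F : ProEtS.AbP S) :
    IsIso (((Scheme.ProEt.forget S).sheafAdjunctionContinuous AddCommGrpCat.{u + 1}
      (Scheme.ProEt.topology S) (Scheme.proetaleTopology.over S)).unit.app F) ∧
    ∀ q : ℕ, 0 < q →
      IsZero ((((Scheme.ProEt.forget S).sheafPushforwardContinuous AddCommGrpCat.{u + 1}
        (Scheme.ProEt.topology S) (Scheme.proetaleTopology.over S)).rightDerived q).obj
        (((Scheme.ProEt.forget S).sheafPullback AddCommGrpCat.{u + 1} (Scheme.ProEt.topology S)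
          (Scheme.proetaleTopology.over S)).obj F)) := by
  haveI := isCocontinuous_forget S
  let G := Scheme.ProEt.forget S
  let adj := G.sheafAdjunctionContinuous AddCommGrpCat.{u + 1} (Scheme.ProEt.topology S) (Scheme.proetaleTopology.over S)
  let adj' := G.sheafAdjunctionCocontinuous AddCommGrpCat.{u + 1} (Scheme.ProEt.topology S) (Scheme.proetaleTopology.over S)
  haveI hc : IsIso adj'.counit := by
    haveI : ∀ M, IsIso (adj'.counit.app M) := fun M => by
      haveI : IsIso (adj'.counit.app M).hom := by
        rw [Functor.sheafAdjunctionCocontinuous_counit_app_hom]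
        infer_instance
      haveI : IsIso ((sheafToPresheaf _ _).map (adj'.counit.app M)) := ‹IsIso (adj'.counit.app M).hom›
      exact isIso_of_reflects_iso (adj'.counit.app M) (sheafToPresheaf _ _)
    exact NatIso.isIso_of_isIso_app _
  let t : Adjunction.Triple (G.sheafPullback AddCommGrpCat.{u + 1} (Scheme.ProEt.topology S) (Scheme.proetaleTopology.over S))
      (G.sheafPushforwardContinuous AddCommGrpCat.{u + 1} (Scheme.ProEt.topology S) (Scheme.proetaleTopology.over S))
      (G.sheafPushforwardCocontinuous AddCommGrpCat.{u + 1} (Scheme.ProEt.topology S) (Scheme.proetaleTopology.over S)) :=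
    ⟨adj, adj'⟩
  haveI : IsIso adj.unit := t.isIso_unit_iff_isIso_counit.2 hc
  refine ⟨inferInstanceAs (IsIso (adj.unit.app F)), fun q hq => ?_⟩
  obtain ⟨m, rfl⟩ := Nat.exists_eq_succ_of_ne_zero hq.ne'
  let R := G.sheafPushforwardContinuous AddCommGrpCat.{u + 1} (Scheme.ProEt.topology S) (Scheme.proetaleTopology.over S)
  haveI : PreservesColimitsOfSize.{0, 0} R := adj'.leftAdjoint_preservesColimits
  haveI : PreservesLimitsOfSize.{0, 0} R := adj.rightAdjoint_preservesLimits
  exact H15Site.ClosedPushAb.isZero_rightDerived R _ m

end Groth.Agent.H1Closed
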