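import Groth.Agent.H1Closed.Lift
import Groth.Agent.H1CAlg.WLocal
import Groth.Agent.S0722

/-!
# Decomposition of weakly contractible objects along a closed subscheme with retrocompact complement
-/

set_option autoImplicit false
set_option backward.isDefEq.respectTransparency false
set_option linter.style.haveILetI false

universe u

open CategoryTheory CategoryTheory.Limits AlgebraicGeometry Opposite

namespace Groth.Agent.H1Closed

open PrimeSpectrum in
/-- The closed points of a w-local ring in a closed constructible set are cut out by an idempotent. -/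
theorem exists_idem_closedPoints {A : Type u} [CommRing A] (hw : ProEtW.IsWLocal (PrimeSpectrum A))
    {C : Set (PrimeSpectrum A)} (E : Finset A) (hE : zeroLocus (E : Set A) = C) :
    ∃ e : A, IsIdempotentElem e ∧ ∀ m : PrimeSpectrum A, m.asIdeal.IsMaximal → (e ∉ m.asIdeal ↔ m ∈ C) := by
  classical
  let J : Ideal A := vanishingIdeal (ProEtW.closedPoints (PrimeSpectrum A))
  have hS : H1CAlg.WLoc.Split A J := H1CAlg.WLoc.split_of_isWLocal hw
  have h : ∀ a : A, ∃ ε : A, IsIdempotentElem ε ∧ ∀ m : Ideal A, m.IsMaximal → (a ∈ m ↔ ε ∈ m) := fun a => by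
    obtain ⟨ε, y, hε, hxy, hx1⟩ := hS.split a
    refine ⟨ε, hε, fun m hm => ⟨fun ha => ?_, fun he => ?_⟩⟩
    · have := m.sub_mem (m.mul_mem_right y ha) (hS.le_of_isMaximal hm hxy)
      rwa [sub_sub_cancel] at this
    · exact (hm.isPrime.mem_or_mem (hm.isPrime.radical_le_iff.2 (hS.le_of_isMaximal hm) hx1)).resolve_right
        fun h3 => @H1CAlg.WLoc.notMem_of_one_sub_mem A _ ε m hm.isPrime h3 he
  choose ε hε hεm using h
  refine ⟨∏ a ∈ E, (1 - ε a), ?_, fun m hm => ?_⟩
  · exact Finset.prod_induction _ IsIdempotentElem (fun x y => IsIdempotentElem.mul) IsIdempotentElem.one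
      fun a _ => (hε a).one_sub
  · rw [← hE, mem_zeroLocus]
    haveI := hm.isPrime
    rw [Ideal.IsPrime.prod_mem_iff, not_exists]
    refine ⟨fun hne a ha => ?_, fun hsub a ha => ?_⟩
    · show a ∈ m.asIdeal
      rw [hεm a m.asIdeal hm]
      exact (H1CAlg.WLoc.mem_or_mem_of_isIdempotentElem (hε a) m.asIdeal).resolve_right fun h1 => hne a ⟨ha, h1⟩
    · exact H1CAlg.WLoc.notMem_of_one_sub_mem m.asIdeal ha.2 ((hεm a m.asIdeal hm).1 (hsub ha.1))

variable {Z X : Scheme.{u}} (i : Z ⟶ X) [IsClosedImmersion i]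

open H26ProEt (pieceObj pieceHom IsPartition)

/-- A weakly contractible affine object splits into a part specializing into the closed subscheme and
a part avoiding it. -/
theorem exists_decomp (hr : IsRetrocompact (Set.range i.base)ᶜ) (V : X.ProEt) [IsAffine V.left]
    (hV : ProEtS.IsWC V) :
    ∃ O : Fin 2 → V.left.Opens, IsPartition O ∧
      IsAffine (pieceObj V (O 0)).left ∧ ProEtS.IsWC (pieceObj V (O 0)) ∧
      SpecializesInto i (pieceObj V (O 0)) ∧ ∀ v : (pieceObj V (O 1)).left, (pieceObj V (O 1)).hom v ∉ Set.range i := by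
  haveI : IsAffine ((𝟭 Scheme).obj V.left :) := ‹IsAffine V.left›
  have hwc : EtPBC.IsWContractible Γ(V.left, ⊤) := H26ProEt.splits_iff.2 (H26ProEt.splits_of_isWC hV)
  let A := Γ(V.left, ⊤)
  let t : Spec A ⟶ V.left := V.left.isoSpec.inv
  let C : Set (PrimeSpectrum A) := (t ≫ V.hom) ⁻¹' Set.range i
  have hopen : IsOpen (Set.range i.base)ᶜ := i.isClosedEmbedding.isClosed_range.isOpen_compl
  have hcpt : IsCompact Cᶜ := by
    rw [← Set.preimage_compl]
    exact H24Algz.isCompact_of_isConstructible (X := Spec A)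
      (H12AlgSp.isLocallyConstructible_preimage (t ≫ V.hom)
        (hr.isConstructible hopen).isLocallyConstructible).isConstructible
  have hCo : IsOpen Cᶜ := by
    rw [← Set.preimage_compl]
    exact hopen.preimage (t ≫ V.hom).continuous
  obtain ⟨E, hE⟩ := PrimeSpectrum.isCompact_isOpen_iff.1 ⟨hcpt, hCo⟩
  have hw : ProEtW.IsWLocal (PrimeSpectrum A) := ((Groth.Agent.S0677.result A).1 hwc).1
  obtain ⟨e, he, hem⟩ := exists_idem_closedPoints hw E (C := C) (compl_inj_iff.1 hE)
  let O : Fin 2 → V.left.Opens :=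
    ![V.left.isoSpec.hom ⁻¹ᵁ (PrimeSpectrum.basicOpen e), V.left.isoSpec.hom ⁻¹ᵁ (PrimeSpectrum.basicOpen (1 - e))]
  have hp : ∀ v : V.left, (v ∈ O 0 ↔ e ∉ (V.left.isoSpec.hom v).asIdeal) ∧
      (v ∈ O 1 ↔ 1 - e ∉ (V.left.isoSpec.hom v).asIdeal) := fun v => ⟨Iff.rfl, Iff.rfl⟩
  have hor : ∀ v : V.left, e ∈ (V.left.isoSpec.hom v).asIdeal ↔ 1 - e ∉ (V.left.isoSpec.hom v).asIdeal := fun v =>
    ⟨fun h h' => H1CAlg.WLoc.notMem_of_one_sub_mem _ h' h,
      fun h => (H1CAlg.WLoc.mem_or_mem_of_isIdempotentElem he _).resolve_right h⟩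
  have hO : IsPartition O := by
    refine ⟨fun k l hkl => Set.disjoint_left.2 fun v hk hl => ?_, fun v => ?_⟩
    · fin_cases k <;> fin_cases l
      · exact hkl rfl
      · exact (hp v).1.1 hk ((hor v).2 ((hp v).2.1 hl))
      · exact (hp v).1.1 hl ((hor v).2 ((hp v).2.1 hk))
      · exact hkl rfl
    · by_cases h : e ∈ (V.left.isoSpec.hom v).asIdeal
      · exact ⟨1, (hor v).1 h⟩
      · exact ⟨0, h⟩
  -- the closed point under a given point
  have hclosed : ∀ v : V.left, ∃ z : V.left, v ⤳ z ∧ (z ∈ O 0 ↔ v ∈ O 0) ∧ (V.hom z ∈ Set.range i ↔ z ∈ O 0) := by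
    intro v
    let q := V.left.isoSpec.hom v
    obtain ⟨m, hm, hle⟩ := Ideal.exists_le_maximal q.asIdeal q.isPrime.ne_top
    let z : V.left := t ⟨m, hm.isPrime⟩
    have hz : V.left.isoSpec.hom z = ⟨m, hm.isPrime⟩ := by
      show V.left.isoSpec.hom (V.left.isoSpec.inv _) = _
      rw [← Scheme.Hom.comp_apply, Iso.inv_hom_id]
      rfl
    have htv : t q = v := by
      show V.left.isoSpec.inv (V.left.isoSpec.hom v) = v
      rw [← Scheme.Hom.comp_apply, Iso.hom_inv_id]
      rfl
    refine ⟨z, htv ▸ ((PrimeSpectrum.le_iff_specializes q ⟨m, hm.isPrime⟩).1 hle).map t.continuous, ?_, ?_⟩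
    · rw [(hp z).1, (hp v).1, hz]
      refine ⟨fun h h' => h (hle h'), fun h h' => ?_⟩
      rcases H1CAlg.WLoc.mem_or_mem_of_isIdempotentElem he q.asIdeal with h1 | h1
      · exact h h1
      · exact @H1CAlg.WLoc.notMem_of_one_sub_mem A _ e m hm.isPrime (hle h1) h'
    · rw [(hp z).1, hz]
      exact (hem ⟨m, hm.isPrime⟩ hm).symm
  have hbo : IsAffineOpen (X := Spec A) (PrimeSpectrum.basicOpen e) := by
    rw [← basicOpen_eq_of_affine e]
    exact (isAffineOpen_top (Spec A)).basicOpen _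
  have haff : IsAffine (pieceObj V (O 0)).left := hbo.preimage_of_isIso V.left.isoSpec.hom
  refine ⟨O, hO, haff, ?_, fun v => ?_, fun v hv => ?_⟩
  · haveI := haff
    haveI : IsClosedImmersion (O 0).ι := IsClosedImmersion.of_isPreimmersion _ (by
      rw [Scheme.Opens.range_ι]; exact (hO.isClopen 0).1)
    haveI : IsAffine ((pieceObj V (O 0)).left) := haff
    refine H26ProEt.isWC_of_refines (H26ProEt.refines_of_splits (H26ProEt.splits_iff.1 ?_))
    show EtPBC.IsWContractible Γ((O 0 : Scheme.{u}), ⊤)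
    haveI : IsAffine (O 0 : Scheme.{u}) := haff
    refine Groth.Agent.S0722.isWContractible_of_closedImmersion (O 0).ι hwc ?_ ?_
    · rw [Scheme.Opens.range_ι]
      have h01 : (O 0 : Set V.left)ᶜ = V.left.isoSpec.hom ⁻¹' (PrimeSpectrum.basicOpen (1 - e) : Set (PrimeSpectrum A)) := by
        ext v
        show ¬ v ∈ O 0 ↔ v ∈ O 1
        rw [(hp v).1, (hp v).2, not_not]
        exact hor v
      rw [h01]
      exact H12AlgSp.isLocallyConstructible_preimage V.left.isoSpec.hom
        (PrimeSpectrum.isConstructible_basicOpen).isLocallyConstructible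
    · rw [Scheme.Opens.range_ι]
      exact (hO.isClopen 0).compl.2
  · obtain ⟨z, hvz, hzv, hzi⟩ := hclosed v.1
    have hz0 : z ∈ O 0 := hzv.2 v.2
    refine ⟨⟨z, hz0⟩, hzi.2 hz0, ?_⟩
    exact (O 0).ι.isOpenEmbedding.isInducing.specializes_iff.1 hvz
  · have hvC : V.hom v.1 ∈ Set.range i := hv
    obtain ⟨z, hvz, hzv, hzi⟩ := hclosed v.1
    have hzC : V.hom z ∈ Set.range i :=
      (hvz.map V.hom.continuous).mem_closed i.isClosedEmbedding.isClosed_range hvC
    exact Set.disjoint_left.1 (hO.disjoint (show (0 : Fin 2) ≠ 1 by decide)) (hzv.1 (hzi.1 hzC)) v.2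

end Groth.Agent.H1Closed
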