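import Groth.Agent.H1Closed.Ring
import Groth.Agent.H26ProEt.WC
import Groth.Agent.S7286
import Mathlib.AlgebraicGeometry.PullbackCarrier
import Mathlib.AlgebraicGeometry.Morphisms.ClosedImmersion

/-!
# Henselian lifts of weakly contractible objects along closed immersions
-/

set_option autoImplicit false
set_option backward.isDefEq.respectTransparency false
set_option linter.style.haveILetI false

universe u

open CategoryTheory CategoryTheory.Limits AlgebraicGeometry Opposite

namespace Groth.Agent.H1Closed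

section Lifts

variable {Z X : Scheme.{u}} (i : Z ⟶ X)

/-- Every point specialises into the closed subscheme. -/
def SpecializesInto (V : X.ProEt) : Prop :=
  ∀ v : V.left, ∃ z : V.left, V.hom z ∈ Set.range i ∧ v ⤳ z

theorem appTop_toSpecΓ_comp {W : Scheme.{u}} {H : CommRingCat.{u}} (φ : H ⟶ Γ(W, ⊤)) :
    (W.toSpecΓ ≫ Spec.map φ).appTop = (Scheme.ΓSpecIso H).hom ≫ φ := by
  rw [Scheme.Hom.comp_appTop, Scheme.toSpecΓ_appTop, Scheme.ΓSpecIso_naturality]

theorem weaklyEtale_left' {S : Scheme.{u}} {A B : S.ProEt} (f : A ⟶ B) : WeaklyEtale f.left := by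
  haveI : WeaklyEtale (f.left ≫ B.hom) := by rw [MorphismProperty.Over.w]; infer_instance
  exact WeaklyEtale.of_comp _ B.hom

variable [IsClosedImmersion i]

omit [IsClosedImmersion i] in
theorem range_fst' (V : X.ProEt) :
    Set.range (pullback.fst V.hom i : ((ProEtS.bcP i).obj V).left ⟶ V.left) = V.hom ⁻¹' Set.range i :=
  Scheme.Pullback.range_fst V.hom i

theorem isAffine_bcP_of_isClosedImmersion (V : X.ProEt) [IsAffine V.left] : IsAffine ((ProEtS.bcP i).obj V).left := by
  haveI : IsClosedImmersion (pullback.fst V.hom i) := MorphismProperty.pullback_fst _ _ inferInstance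
  haveI : IsAffine ((𝟭 Scheme).obj V.left :) := ‹IsAffine V.left›
  exact isAffine_of_isAffineHom (pullback.fst V.hom i)

/-- Lifting of affine weakly contractible objects. -/
theorem exists_lift_of_isClosedImmersion {V : X.ProEt} [IsAffine V.left] {W : Z.ProEt} [IsAffine W.left]
    (hW : ProEtS.IsWC W) (a : W ⟶ (ProEtS.bcP i).obj V) :
    ∃ (V' : X.ProEt) (h : V' ⟶ V) (e : W ≅ (ProEtS.bcP i).obj V'),
      IsAffine V'.left ∧ ProEtS.IsWC V' ∧ SpecializesInto i V' ∧ e.hom ≫ (ProEtS.bcP i).map h = a := by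
  let g : ((ProEtS.bcP i).obj V).left ⟶ V.left := pullback.fst V.hom i
  haveI : IsClosedImmersion g := MorphismProperty.pullback_fst _ _ inferInstance
  haveI := isAffine_bcP_of_isClosedImmersion i V
  obtain ⟨-, hgs⟩ := IsClosedImmersion.isAffine_surjective_of_isAffine g
  let A : CommRingCat.{u} := Γ(V.left, ⊤)
  let Cb : CommRingCat.{u} := Γ(W.left, ⊤)
  let J : Ideal A := RingHom.ker g.appTop.hom
  let f : A →+* Cb := (g.appTop ≫ a.left.appTop).hom
  let e₀ : (A ⧸ J) ≃+* Γ(((ProEtS.bcP i).obj V).left, ⊤) := RingHom.quotientKerEquivOfSurjective hgs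
  letI : Algebra (A ⧸ J) Cb := (a.left.appTop.hom.comp e₀.toRingHom).toAlgebra
  letI : Algebra A Cb := f.toAlgebra
  haveI : IsScalarTower A (A ⧸ J) Cb := IsScalarTower.of_algebraMap_eq fun x => rfl
  haveI : Algebra.WeaklyEtale (A ⧸ J) Cb := (H26ProEt.weaklyEtale_SpecMap_iff _ _).1 (by
    haveI := weaklyEtale_left' a
    haveI : IsIso (CommRingCat.ofHom e₀.toRingHom) := e₀.toCommRingCatIso.isIso_hom
    haveI : WeaklyEtale (Spec.map a.left.appTop) := by
      rw [show Spec.map a.left.appTop = W.left.isoSpec.inv ≫ a.left ≫ ((ProEtS.bcP i).obj V).left.isoSpec.hom by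
        rw [← Scheme.isoSpec_hom_naturality, Iso.inv_hom_id_assoc]]
      infer_instance
    show WeaklyEtale (Spec.map (CommRingCat.ofHom e₀.toRingHom ≫ a.left.appTop))
    rw [Spec.map_comp]
    infer_instance)
  have hwc : EtPBC.IsWContractible Cb := H26ProEt.splits_iff.2 (H26ProEt.splits_of_isWC hW)
  obtain ⟨H, _, _, π, hwe, hHwc, hπs, hπk, hπj⟩ := exists_wc_lift A J Cb hwc
  let σ : A ⟶ CommRingCat.of H := CommRingCat.ofHom (algebraMap A H)
  haveI : WeaklyEtale (Spec.map σ) := (H26ProEt.weaklyEtale_SpecMap_iff A H).2 hwe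
  let V' : X.ProEt := Scheme.ProEt.mk (Spec.map σ ≫ V.left.isoSpec.inv ≫ V.hom)
  let h : V' ⟶ V := MorphismProperty.Over.homMk (Spec.map σ ≫ V.left.isoSpec.inv) (Category.assoc _ _ _) trivial
  haveI hV' : IsAffine V'.left := inferInstanceAs (IsAffine (Spec (CommRingCat.of H)))
  haveI : IsAffine ((𝟭 Scheme).obj W.left :) := ‹IsAffine W.left›
  let φ : CommRingCat.of H ⟶ Cb := CommRingCat.ofHom π.toRingHom
  let w : W.left ⟶ V'.left := W.left.toSpecΓ ≫ Spec.map φ
  have hw : w ≫ h.left = a.left ≫ g := by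
    show (W.left.toSpecΓ ≫ Spec.map φ) ≫ Spec.map σ ≫ V.left.isoSpec.inv = a.left ≫ g
    rw [Category.assoc, ← Spec.map_comp_assoc, show σ ≫ φ = (a.left ≫ g).appTop from
      CommRingCat.hom_ext π.comp_algebraMap, ← Category.assoc, ← Scheme.toSpecΓ_naturality, Category.assoc]
    exact (congrArg ((a.left ≫ g) ≫ ·) V.left.isoSpec.hom_inv_id).trans (Category.comp_id _)
  have hwV : w ≫ V'.hom = W.hom ≫ i := by
    rw [← MorphismProperty.Over.w h, ← Category.assoc, hw, Category.assoc]
    exact (congrArg (a.left ≫ ·) pullback.condition).trans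
      ((Category.assoc _ _ _).symm.trans (congrArg (· ≫ i) (MorphismProperty.Over.w a)))
  let q : W ⟶ (ProEtS.bcP i).obj V' :=
    MorphismProperty.Over.homMk (pullback.lift w W.hom hwV) (pullback.lift_snd _ _ _) trivial
  have hqh : q ≫ (ProEtS.bcP i).map h = a := by
    refine MorphismProperty.Over.Hom.ext (pullback.hom_ext ?_ ?_)
    · show (q.left ≫ ((ProEtS.bcP i).map h).left) ≫ pullback.fst V.hom i = a.left ≫ g
      rw [Category.assoc, show ((ProEtS.bcP i).map h).left ≫ pullback.fst V.hom i =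
        pullback.fst V'.hom i ≫ h.left from pullback.lift_fst _ _ _, ← Category.assoc]
      exact (congrArg (· ≫ h.left) (pullback.lift_fst w W.hom hwV)).trans hw
    · exact (MorphismProperty.Over.w (q ≫ (ProEtS.bcP i).map h)).trans (MorphismProperty.Over.w a).symm
  let g' : ((ProEtS.bcP i).obj V').left ⟶ V'.left := pullback.fst V'.hom i
  haveI : IsClosedImmersion g' := MorphismProperty.pullback_fst _ _ inferInstance
  haveI := isAffine_bcP_of_isClosedImmersion i V'
  obtain ⟨-, hg's⟩ := IsClosedImmersion.isAffine_surjective_of_isAffine g'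
  have hqg : q.left ≫ g' = w := pullback.lift_fst _ _ _
  have hwapp : ∀ y, w.appTop y = π ((Scheme.ΓSpecIso (CommRingCat.of H)).hom y) := fun y =>
    ConcreteCategory.congr_hom (appTop_toSpecΓ_comp φ) y
  have hqapp : ∀ y, q.left.appTop (g'.appTop y) = w.appTop y := fun y => by
    rw [← hqg, Scheme.Hom.comp_appTop]
    rfl
  have hqs : Function.Surjective q.left.appTop := fun c => by
    obtain ⟨y, hy⟩ := hπs c
    refine ⟨g'.appTop ((Scheme.ΓSpecIso (CommRingCat.of H)).inv y), ?_⟩
    rw [hqapp, hwapp, ← ConcreteCategory.comp_apply, Iso.inv_hom_id]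
    exact hy
  haveI : IsClosedImmersion q.left := IsClosedImmersion.of_surjective_of_isAffine _ hqs
  have hqi : Function.Injective q.left.appTop := by
    refine (injective_iff_map_eq_zero q.left.appTop.hom).2 fun x hx => ?_
    obtain ⟨y, rfl⟩ := hg's x
    rw [hqapp, hwapp] at hx
    have hy : (Scheme.ΓSpecIso (CommRingCat.of H)).hom y ∈ J.map (algebraMap A H) := hπk ▸ hx
    have hle : J.map (algebraMap A H) ≤
        RingHom.ker ((Scheme.ΓSpecIso (CommRingCat.of H)).inv ≫ g'.appTop).hom := by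
      refine Ideal.map_le_iff_le_comap.2 fun x hx => ?_
      show ((Scheme.ΓSpecIso (CommRingCat.of H)).inv ≫ g'.appTop) (algebraMap A H x) = 0
      have e1 : h.left.appTop = σ ≫ (Scheme.ΓSpecIso (CommRingCat.of H)).inv := by
        show (Spec.map σ ≫ V.left.isoSpec.inv).appTop = _
        have e0 : V.left.isoSpec.inv.appTop = (Scheme.ΓSpecIso A).inv := by
          rw [← cancel_mono (Scheme.ΓSpecIso A).hom, Iso.inv_hom_id,
            ← Scheme.toSpecΓ_appTop, ← Scheme.Hom.comp_appTop]
          exact (congrArg Scheme.Hom.appTop V.left.isoSpec.hom_inv_id).trans Scheme.Hom.id_appTop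
        rw [Scheme.Hom.comp_appTop, e0]
        exact (Scheme.ΓSpecIso_inv_naturality σ).symm
      have e2 : g'.appTop (h.left.appTop x) = ((ProEtS.bcP i).map h).left.appTop (g.appTop x) := by
        rw [← ConcreteCategory.comp_apply, ← ConcreteCategory.comp_apply, ← Scheme.Hom.comp_appTop,
          ← Scheme.Hom.comp_appTop]
        congr 2
        exact congrArg Scheme.Hom.appTop (pullback.lift_fst _ _ _).symm
      rw [show g.appTop x = 0 from hx, map_zero, e1] at e2
      exact e2
    have h2 := hle hy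
    rw [RingHom.mem_ker, ← ConcreteCategory.comp_apply, ← Category.assoc, Iso.hom_inv_id] at h2
    exact h2
  haveI : IsIso q.left := IsClosedImmersion.isIso_of_injective_of_isAffine hqi
  let e : W ≅ (ProEtS.bcP i).obj V' := MorphismProperty.Over.isoMk (asIso q.left) (MorphismProperty.Over.w q)
  refine ⟨V', h, e, hV', H26ProEt.isWC_of_refines (H26ProEt.refines_of_splits (H26ProEt.splits_iff.1
    (S7286.isWContractible_of_ringEquiv (Scheme.ΓSpecIso (CommRingCat.of H)).commRingCatIsoToRingEquiv.symm hHwc))),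
    fun v => ?_, ?_⟩
  · obtain ⟨m, hm, hle⟩ := Ideal.exists_le_maximal v.asIdeal v.isPrime.ne_top
    refine ⟨⟨m, hm.isPrime⟩, ?_, (PrimeSpectrum.le_iff_specializes v ⟨m, hm.isPrime⟩).1 hle⟩
    have hker : RingHom.ker π.toRingHom ≤ m := hπj.trans (sInf_le ⟨bot_le, hm⟩)
    obtain ⟨p, hp⟩ : (⟨m, hm.isPrime⟩ : PrimeSpectrum H) ∈ Set.range (PrimeSpectrum.comap π.toRingHom) := by
      rw [_root_.range_comap_of_surjective _ _ hπs]
      exact hker
    have hmem : (⟨m, hm.isPrime⟩ : PrimeSpectrum H) ∈ Set.range w := by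
      refine ⟨W.left.isoSpec.inv p, ?_⟩
      show (W.left.isoSpec.hom ≫ Spec.map φ) (W.left.isoSpec.inv p) = _
      rw [← Scheme.Hom.comp_apply, Iso.inv_hom_id_assoc]
      exact hp
    obtain ⟨z, hz⟩ := hmem
    show V'.hom ⟨m, hm.isPrime⟩ ∈ Set.range i
    refine ⟨W.hom z, ?_⟩
    rw [← hz]
    exact congrArg (fun r : W.left ⟶ X => r z) hwV.symm
  · exact (MorphismProperty.Over.Hom.ext rfl : e.hom = q) ▸ hqh

omit [IsClosedImmersion i] in
/-- Base change along `i` lifts affine weakly contractible objects. -/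
class HasLifts : Prop where
  isAffine : ∀ (V : X.ProEt) [IsAffine V.left], IsAffine ((ProEtS.bcP i).obj V).left
  lift : ∀ {V : X.ProEt} [IsAffine V.left] {W : Z.ProEt} [IsAffine W.left]
    (_ : ProEtS.IsWC W) (a : W ⟶ (ProEtS.bcP i).obj V),
    ∃ (V' : X.ProEt) (h : V' ⟶ V) (e : W ≅ (ProEtS.bcP i).obj V'),
      IsAffine V'.left ∧ ProEtS.IsWC V' ∧ SpecializesInto i V' ∧ e.hom ≫ (ProEtS.bcP i).map h = a

instance : HasLifts i where
  isAffine := isAffine_bcP_of_isClosedImmersion i
  lift := exists_lift_of_isClosedImmersion i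

end Lifts

section Lifts'

variable {Z X : Scheme.{u}} (i : Z ⟶ X) [HasLifts i]

theorem isAffine_bcP (V : X.ProEt) [IsAffine V.left] : IsAffine ((ProEtS.bcP i).obj V).left :=
  HasLifts.isAffine V

theorem exists_lift {V : X.ProEt} [IsAffine V.left] {W : Z.ProEt} [IsAffine W.left]
    (hW : ProEtS.IsWC W) (a : W ⟶ (ProEtS.bcP i).obj V) :
    ∃ (V' : X.ProEt) (h : V' ⟶ V) (e : W ≅ (ProEtS.bcP i).obj V'),
      IsAffine V'.left ∧ ProEtS.IsWC V' ∧ SpecializesInto i V' ∧ e.hom ≫ (ProEtS.bcP i).map h = a :=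
  HasLifts.lift hW a

end Lifts'

end Groth.Agent.H1Closed
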