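import Groth.Agent.H1CAlg.IndEtale
import Groth.Agent.H9Hens.EtaleQuotLift
import Groth.Agent.S0677
import Groth.Agent.S0675
import Groth.Agent.H1CAlg.IndEtale
import Groth.Agent.H1WE.Cover
import Groth.Agent.H9Hens.PtColim
import Groth.Agent.H9Hens.Pair

/-!
# Henselian lifts of w-contractible algebras along surjections
-/

set_option autoImplicit false
set_option linter.style.haveILetI false

universe u

namespace Groth.Agent.H1Closed

open PrimeSpectrum TensorProduct

/-- A weakly etale w-contractible algebra is ind-etale. -/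
theorem isIndEtale_of_wc {A B : Type u} [CommRing A] [CommRing B] [Algebra A B] [Algebra.WeaklyEtale A B]
    (h : EtPBC.IsWContractible B) : EtPBC.IsIndEtale A B := by
  obtain ⟨C, _, _, _, _, hff, hBC, hAC⟩ := H1WE.exists_indEtale_cover (A := A) (B := B)
  obtain ⟨r⟩ := h C hff (H1CAlg.IndEtale.weaklyEtale_of_isIndEtale hBC)
  refine H1CAlg.IndEtale.isIndEtale_of_factors fun P _ _ _ f => ?_
  obtain ⟨D, i₁, i₂, i₃, g, k, hgk⟩ :=
    H1CAlg.IndEtale.factors_of_isIndEtale hAC P ((IsScalarTower.toAlgHom A B C).comp f)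
  refine ⟨D, i₁, i₂, i₃, g, (r.restrictScalars A).comp k, AlgHom.ext fun x => ?_⟩
  show r (k (g x)) = f x
  rw [show k (g x) = algebraMap B C (f x) from DFunLike.congr_fun hgk x]
  exact r.commutes (f x)

/-- The henselian lift of an ind-etale algebra over a quotient. -/
theorem exists_ptColim_lift (A : Type u) [CommRing A] (I : Ideal A) (Cb : Type u) [CommRing Cb]
    [Algebra (A ⧸ I) Cb] [Algebra A Cb] [IsScalarTower A (A ⧸ I) Cb] (h : EtPBC.IsIndEtale (A ⧸ I) Cb) :
    ∃ (H : Type u) (_ : CommRing H) (_ : Algebra A H) (π : H →ₐ[A] Cb),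
      H9Hens.IsPtColim π ∧ Function.Surjective π ∧ RingHom.ker π = I.map (algebraMap A H) := by
  obtain ⟨H, _, _, π, hH⟩ := H9Hens.exists_isPtColim (A := A) (k := Cb)
  -- every point of an etale `A`-algebra factors through a lift of an etale `A ⧸ I`-algebra
  have lift : ∀ (E : Type u) [CommRing E] [Algebra A E] [Algebra.Etale A E] (σ : E →ₐ[A] Cb)
      (x : E), σ x = 0 → ∃ (E₃ : Type u) (_ : CommRing E₃) (_ : Algebra A E₃)
        (_ : Algebra.Etale A E₃) (σ₃ : E₃ →ₐ[A] Cb) (χ : E →ₐ[A] E₃),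
        σ₃.comp χ = σ ∧ χ x ∈ I.map (algebraMap A E₃) := by
    intro E _ _ _ σ x hx
    let Eb := (A ⧸ I) ⊗[A] E
    let σb : Eb →ₐ[A ⧸ I] Cb :=
      Algebra.TensorProduct.lift (Algebra.ofId (A ⧸ I) Cb) σ fun _ _ => Commute.all _ _
    let J : Ideal Eb := Ideal.span {(1 : A ⧸ I) ⊗ₜ x}
    haveI : Algebra.FinitePresentation (A ⧸ I) (Eb ⧸ J) :=
      Algebra.FinitePresentation.quotient (Submodule.fg_span_singleton _)
    let σq : (Eb ⧸ J) →ₐ[A ⧸ I] Cb := Ideal.Quotient.liftₐ J σb fun a ha => by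
      obtain ⟨c, rfl⟩ := Ideal.mem_span_singleton'.1 ha
      have h0 : σb (1 ⊗ₜ x) = 0 := by
        show algebraMap (A ⧸ I) Cb 1 * σ x = 0
        rw [hx, mul_zero]
      rw [map_mul, h0, mul_zero]
    obtain ⟨D, _, _, _, g, k, hgk⟩ := H1CAlg.IndEtale.factors_of_isIndEtale h (Eb ⧸ J) σq
    let gE : Eb →ₐ[A ⧸ I] D := g.comp (Ideal.Quotient.mkₐ (A ⧸ I) J)
    letI : Algebra Eb D := gE.toRingHom.toAlgebra
    haveI : IsScalarTower (A ⧸ I) Eb D :=
      IsScalarTower.of_algebraMap_eq fun a => (gE.commutes a).symm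
    haveI : Algebra.Etale Eb D := Algebra.Etale.of_restrictScalars (A ⧸ I) Eb D
    -- `Eb` is the quotient of `E` by `I E`
    let eE : Eb ≃ₐ[A] E ⧸ I.map (algebraMap A E) :=
      ((Algebra.TensorProduct.comm A (A ⧸ I) E).trans
        ((Algebra.TensorProduct.quotIdealMapEquivTensorQuot E I).symm.restrictScalars A))
    letI : Algebra (E ⧸ I.map (algebraMap A E)) D :=
      ((algebraMap Eb D).comp eE.symm.toRingEquiv.toRingHom).toAlgebra
    haveI : Algebra.Etale (E ⧸ I.map (algebraMap A E)) D := by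
      rw [← RingHom.etale_algebraMap]
      exact RingHom.Etale.stableUnderComposition _ _
        (RingHom.Etale.of_bijective eE.symm.bijective)
        (RingHom.etale_algebraMap.mpr ‹Algebra.Etale Eb D›)
    obtain ⟨E₃, _, _, _, ⟨e₃⟩⟩ :=
      H9Hens.exists_etale_lift_quotient E (I.map (algebraMap A E)) D
    letI : Algebra A E₃ := ((algebraMap E E₃).comp (algebraMap A E)).toAlgebra
    haveI : IsScalarTower A E E₃ := IsScalarTower.of_algebraMap_eq fun _ => rfl
    haveI : Algebra.Etale A E₃ := Algebra.Etale.comp A E E₃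
    let p : E₃ →+* D := e₃.toRingEquiv.toRingHom.comp
      (Algebra.TensorProduct.includeRight :
        E₃ →ₐ[E] (E ⧸ I.map (algebraMap A E)) ⊗[E] E₃).toRingHom
    have hp : ∀ y : E, p (algebraMap E E₃ y) = gE (1 ⊗ₜ y) := fun y => by
      show e₃ (1 ⊗ₜ[E] algebraMap E E₃ y) = _
      rw [← Algebra.TensorProduct.algebraMap_apply' y,
        IsScalarTower.algebraMap_apply E (E ⧸ I.map (algebraMap A E))
          ((E ⧸ I.map (algebraMap A E)) ⊗[E] E₃) y, e₃.commutes]
      show gE (eE.symm (Ideal.Quotient.mk _ y)) = _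
      congr 1
    let σ₃ : E₃ →ₐ[A] Cb :=
      { toRingHom := k.toRingHom.comp p
        commutes' := fun a => by
          show k (p (algebraMap E E₃ (algebraMap A E a))) = _
          rw [hp, ← AlgHom.comp_apply, ← AlgHom.comp_assoc, hgk]
          show algebraMap (A ⧸ I) Cb 1 * σ (algebraMap A E a) = _
          rw [map_one, one_mul, σ.commutes] }
    refine ⟨E₃, inferInstance, inferInstance, inferInstance, σ₃,
      IsScalarTower.toAlgHom A E E₃, AlgHom.ext fun y => ?_, ?_⟩
    · show k (p (algebraMap E E₃ y)) = σ y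
      rw [hp, ← AlgHom.comp_apply, ← AlgHom.comp_assoc, hgk]
      show algebraMap (A ⧸ I) Cb 1 * σ y = _
      rw [map_one, one_mul]
    · have h0 : gE ((1 : A ⧸ I) ⊗ₜ x) = 0 := by
        show g (Ideal.Quotient.mkₐ (A ⧸ I) J _) = 0
        rw [Ideal.Quotient.mkₐ_eq_mk, Ideal.Quotient.eq_zero_iff_mem.2
          (Ideal.mem_span_singleton_self _), map_zero]
      have h1 : (1 : E ⧸ I.map (algebraMap A E)) ⊗ₜ[E] algebraMap E E₃ x = 0 := by
        apply e₃.injective
        rw [map_zero, ← h0, ← hp]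
        rfl
      have h2 : Algebra.TensorProduct.comm E (E ⧸ I.map (algebraMap A E)) E₃
          ((1 : E ⧸ I.map (algebraMap A E)) ⊗ₜ[E] algebraMap E E₃ x) = 0 := by
        rw [h1, map_zero]
      rw [Algebra.TensorProduct.comm_tmul] at h2
      have h3 : Algebra.TensorProduct.quotIdealMapEquivTensorQuot E₃ (I.map (algebraMap A E))
          (Ideal.Quotient.mk _ (algebraMap E E₃ x)) = 0 := h2
      rw [IsScalarTower.algebraMap_eq A E E₃, ← Ideal.map_map]
      exact Ideal.Quotient.eq_zero_iff_mem.1 ((EquivLike.injective _) (h3.trans (map_zero _).symm))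
  have hsurj : Function.Surjective π := fun b => by
    obtain ⟨D, _, _, _, g, k, hgk⟩ :=
      H1CAlg.IndEtale.factors_of_isIndEtale h (Polynomial (A ⧸ I)) (Polynomial.aeval b)
    obtain ⟨E, _, _, _, ⟨e⟩⟩ := H9Hens.exists_etale_lift_quotient A I D
    let σ : E →ₐ[A] Cb := ((k.comp e.toAlgHom).restrictScalars A).comp
      Algebra.TensorProduct.includeRight
    obtain ⟨φ, hφ⟩ := hH.exists_map E σ
    have hs : Function.Surjective (Algebra.TensorProduct.includeRight :
        E →ₐ[A] (A ⧸ I) ⊗[A] E) :=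
      Algebra.TensorProduct.includeRight_surjective _ Ideal.Quotient.mk_surjective
    obtain ⟨y, hy⟩ := hs (e.symm (g Polynomial.X))
    refine ⟨φ y, (DFunLike.congr_fun hφ y).trans ?_⟩
    show k (e (Algebra.TensorProduct.includeRight y)) = b
    rw [hy, e.apply_symm_apply, ← AlgHom.comp_apply, hgk, Polynomial.aeval_X]
  have hker : RingHom.ker π = I.map (algebraMap A H) := by
    refine le_antisymm (fun x hx => ?_) (Ideal.map_le_iff_le_comap.2 fun a ha => ?_)
    · obtain ⟨E, _, _, _, φ, y, rfl⟩ := hH.exists_rep x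
      obtain ⟨E₃, _, _, _, σ₃, χ, hχ, hmem⟩ := lift E (π.comp φ) y hx
      obtain ⟨φ₃, hφ₃⟩ := hH.exists_map E₃ σ₃
      have h1 : φ₃.comp χ = φ := hH.hom_ext (by rw [← AlgHom.comp_assoc, hφ₃, hχ])
      rw [← h1, AlgHom.comp_apply]
      have h2 := Ideal.mem_map_of_mem φ₃.toRingHom hmem
      rwa [Ideal.map_map, show φ₃.toRingHom.comp (algebraMap A E₃) = algebraMap A H from
        φ₃.comp_algebraMap] at h2
    · rw [Ideal.mem_comap, RingHom.mem_ker, π.commutes, IsScalarTower.algebraMap_apply A (A ⧸ I),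
        Ideal.Quotient.algebraMap_eq, Ideal.Quotient.eq_zero_iff_mem.2 ha, map_zero]
  exact ⟨H, inferInstance, inferInstance, π, hH, hsurj, hker⟩

/-- Henselian rings over w-contractible quotients are w-contractible. -/
theorem isWContractible_of_henselian {H Cb : Type u} [CommRing H] [CommRing Cb] (π : H →+* Cb)
    (hπ : Function.Surjective π) (hH : HenselianRing H (RingHom.ker π)) (h : EtPBC.IsWContractible Cb) :
    EtPBC.IsWContractible H := by
  classical
  obtain ⟨hw, hED, -⟩ := (Groth.Agent.S0677.result Cb).1 h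
  let Jb : Ideal Cb := vanishingIdeal (ProEtW.closedPoints (PrimeSpectrum Cb))
  have hS : H1CAlg.WLoc.Split Cb Jb := H1CAlg.WLoc.split_of_isWLocal hw
  have hkmax : ∀ m : Ideal H, m.IsMaximal → RingHom.ker π ≤ m := fun m hm =>
    hH.jac.trans (sInf_le ⟨bot_le, hm⟩)
  have hSH : H1CAlg.WLoc.Split H (Jb.comap π) := by
    refine ⟨le_sInf fun m hm => ?_, fun x => ?_⟩
    · haveI := hm.2
      have hmax : (m.map π).IsMaximal := Ideal.IsMaximal.map_of_surjective_of_ker_le hπ (hkmax m hm.2)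
      refine (Ideal.comap_mono (hS.le_of_isMaximal hmax)).trans ?_
      rw [Ideal.comap_map_of_surjective' π hπ]
      exact sup_le le_rfl (hkmax m hm.2)
    · obtain ⟨eb, yb, heb, h1, h2⟩ := hS.split (π x)
      obtain ⟨b, rfl⟩ := hπ eb
      obtain ⟨y, rfl⟩ := hπ yb
      haveI := hH
      obtain ⟨e, he, hb⟩ := H9Hens.exists_idem_lift (A := H) (I := RingHom.ker π) (B := H) b (by
        rw [Algebra.algebraMap_self, Ideal.map_id, RingHom.mem_ker, map_sub, map_mul, heb.eq, sub_self])
      rw [Algebra.algebraMap_self, Ideal.map_id, RingHom.mem_ker, map_sub, sub_eq_zero] at hb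
      refine ⟨e, y, he, ?_, ?_⟩
      · rw [Ideal.mem_comap, map_sub, map_mul, hb]
        exact h1
      · rw [← Ideal.comap_radical, Ideal.mem_comap, map_mul, map_sub, map_one, hb]
        exact h2
  have hret : ProEtW.HasEtaleRetractions H := by
    intro E _ _ hEff hEet
    letI : Algebra H Cb := π.toAlgebra
    haveI := hEff
    haveI := hEet
    obtain ⟨r⟩ := h (Cb ⊗[H] E) inferInstance inferInstance
    let σ : E →ₐ[H] Cb := (r.restrictScalars H).comp Algebra.TensorProduct.includeRight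
    let q : (H ⧸ RingHom.ker π) ≃ₐ[H] Cb :=
      Ideal.quotientKerAlgEquivOfSurjective (f := Algebra.ofId H Cb) hπ
    haveI := hH
    obtain ⟨τ, -⟩ := H9Hens.exists_algHom_lift (A := H) (I := RingHom.ker π) (q.symm.toAlgHom.comp σ)
    exact ⟨τ⟩
  refine (Groth.Agent.S0677.result H).2 ⟨hSH.isWLocal, ?_, fun m _ => Groth.Agent.S0675.result H hret m⟩
  obtain ⟨φb, -⟩ := hS.exists_homeomorph
  obtain ⟨φ, -⟩ := hSH.exists_homeomorph
  let g : zeroLocus (Jb : Set Cb) → zeroLocus ((Jb.comap π : Ideal H) : Set H) := fun z =>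
    ⟨comap π z.1, fun x hx => z.2 hx⟩
  have hg : Continuous g := ((continuous_comap π).comp continuous_subtype_val).subtype_mk _
  have hgb : Function.Bijective g := by
    refine ⟨fun z w hzw => Subtype.ext ((isClosedEmbedding_comap_of_surjective _ _ hπ).injective
      (congrArg Subtype.val hzw)), fun z => ?_⟩
    obtain ⟨q, hq⟩ : z.1 ∈ Set.range (comap π) := by
      rw [range_comap_of_surjective _ _ hπ]
      exact fun x hx => z.2 (show π x ∈ Jb by rw [RingHom.mem_ker.1 hx]; exact zero_mem _)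
    refine ⟨⟨q, fun y hy => ?_⟩, Subtype.ext hq⟩
    obtain ⟨x, rfl⟩ := hπ y
    have h1 : x ∈ z.1.asIdeal := z.2 hy
    rw [← hq] at h1
    exact h1
  haveI := hS.t2Space_connectedComponents
  haveI := hSH.t2Space_connectedComponents
  haveI : T2Space (zeroLocus ((Jb.comap π : Ideal H) : Set H)) := φ.isEmbedding.t2Space
  haveI : CompactSpace (zeroLocus (Jb : Set Cb)) :=
    isCompact_iff_compactSpace.1 (isClosed_zeroLocus _).isCompact
  haveI := hED
  exact extremallyDisconnected_of_homeo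
    (φb.symm.trans ((Continuous.homeoOfEquivCompactToT2 (f := Equiv.ofBijective g hgb) hg).trans φ))

/-- Lifts of w-contractible weakly etale algebras. -/
theorem exists_wc_lift (A : Type u) [CommRing A] (I : Ideal A) (Cb : Type u) [CommRing Cb]
    [Algebra (A ⧸ I) Cb] [Algebra A Cb] [IsScalarTower A (A ⧸ I) Cb] [Algebra.WeaklyEtale (A ⧸ I) Cb]
    (hwc : EtPBC.IsWContractible Cb) :
    ∃ (H : Type u) (_ : CommRing H) (_ : Algebra A H) (π : H →ₐ[A] Cb),
      Algebra.WeaklyEtale A H ∧ EtPBC.IsWContractible H ∧ Function.Surjective π ∧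
      RingHom.ker π = I.map (algebraMap A H) ∧ RingHom.ker π ≤ Ideal.jacobson ⊥ := by
  obtain ⟨H, _, _, π, hH, hs, hk⟩ := exists_ptColim_lift A I Cb (isIndEtale_of_wc hwc)
  exact ⟨H, inferInstance, inferInstance, π, H1CAlg.IndEtale.weaklyEtale_of_isIndEtale hH.isIndEtale,
    isWContractible_of_henselian π.toRingHom hs hH.henselianRing hwc, hs, hk, hH.jac⟩

end Groth.Agent.H1Closed
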