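import Groth.Agent.H1Closed.TypeSections
import Groth.Agent.H1Closed.Counit
import Mathlib.CategoryTheory.Adjunction.PartialAdjoint
import Mathlib.CategoryTheory.Sites.RegularEpi
import Mathlib.CategoryTheory.Limits.Shapes.KernelPair
import Mathlib.CategoryTheory.Sites.Subcanonical

/-!
# The pullback of sheaves of sets along a closed immersion is a right adjoint
-/

set_option autoImplicit false
set_option backward.isDefEq.respectTransparency false
set_option linter.style.haveILetI false

universe u

open CategoryTheory CategoryTheory.Limits AlgebraicGeometry Opposite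

namespace Groth.Agent.H1Closed.Ty

variable {Z X : Scheme.{u}} (i : Z ⟶ X) [HasLifts i] [ProEtS.PCont i]

/-- The sheaf represented by an object. -/
noncomputable abbrev rep {S : Scheme.{u}} (W : S.ProEt) : Sheaf (Scheme.ProEt.topology S) (Type (u + 1)) :=
  (GrothendieckTopology.uliftYoneda.{u + 1} (Scheme.ProEt.topology S)).obj W

/-- Maps out of represented sheaves. -/
noncomputable abbrev repEquiv {S : Scheme.{u}} (W : S.ProEt) (F : Sheaf (Scheme.ProEt.topology S) (Type (u + 1))) :
    (rep W ⟶ F) ≃ F.obj.obj (op W) :=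
  GrothendieckTopology.uliftYonedaEquiv.{u + 1} (Scheme.ProEt.topology S)

theorem defined_rep (V : X.ProEt) (hVa : IsAffine V.left) (hVw : ProEtS.IsWC V) (hV : SpecializesInto i V) :
    (pullT i).leftAdjointObjIsDefined (rep ((ProEtS.bcP i).obj V)) := by
  haveI := hVa
  rw [Functor.leftAdjointObjIsDefined_iff]
  exact (Functor.CorepresentableBy.isCorepresentable (X := rep V)
    { homEquiv := fun {H} => (repEquiv V H).trans ((Equiv.ofBijective _ (el_bijective i H hVw hV)).trans
        (repEquiv ((ProEtS.bcP i).obj V) ((pullT i).obj H)).symm)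
      homEquiv_comp := fun {H H'} g f => by
        refine (repEquiv ((ProEtS.bcP i).obj V) ((pullT i).obj H')).injective ?_
        show repEquiv _ _ ((repEquiv _ _).symm (ηP i H' V (repEquiv V H' (f ≫ g)))) =
          repEquiv _ _ ((repEquiv _ _).symm (ηP i H V (repEquiv V H f)) ≫ (pullT i).map g)
        rw [Equiv.apply_symm_apply]
        obtain ⟨x, rfl⟩ := (repEquiv V H).symm.surjective f
        rw [Equiv.apply_symm_apply]
        refine Eq.trans ?_ (congrArg (((pullT i).map g).hom.app _) (Equiv.apply_symm_apply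
          (repEquiv ((ProEtS.bcP i).obj V) ((pullT i).obj H)) (ηP i H V x))).symm
        refine Eq.trans (congrArg (ηP i H' V) (congrArg (g.hom.app _) (Equiv.apply_symm_apply (repEquiv V H) x))) ?_
        exact ConcreteCategory.congr_hom (NatTrans.congr_app
          (congrArg (fun q => q.hom) ((pullPushT i).unit.naturality g)) (op V)) x })

theorem defined_sigma {T : Type (u + 1)} (A : T → Sheaf (Scheme.ProEt.topology Z) (Type (u + 1)))
    (h : ∀ t, (pullT i).leftAdjointObjIsDefined (A t)) : (pullT i).leftAdjointObjIsDefined (∐ A) :=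
  (pullT i).leftAdjointObjIsDefined_colimit (Discrete.functor A) fun t => h t.as

theorem exists_epi_defined (G : Sheaf (Scheme.ProEt.topology Z) (Type (u + 1))) :
    ∃ (P : Sheaf (Scheme.ProEt.topology Z) (Type (u + 1))) (π : P ⟶ G),
      (pullT i).leftAdjointObjIsDefined P ∧ Epi π := by
  let T := Σ V : { V : X.ProEt // IsAffine V.left ∧ ProEtS.IsWC V ∧ SpecializesInto i V },
    G.obj.obj (op ((ProEtS.bcP i).obj V.1))
  let A : T → Sheaf (Scheme.ProEt.topology Z) (Type (u + 1)) := fun t => rep ((ProEtS.bcP i).obj t.1.1)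
  let π : ∐ A ⟶ G := Sigma.desc fun t => (repEquiv _ G).symm t.2
  refine ⟨∐ A, π, defined_sigma i A fun t => defined_rep i t.1.1 t.1.2.1 t.1.2.2.1 t.1.2.2.2,
    (Sheaf.isLocallySurjective_iff_epi π).1 ⟨fun {W} s => ?_⟩⟩
  obtain ⟨κ, V, w, hV, hcov⟩ := exists_hen_cover i W
  refine (Scheme.ProEt.topology Z).superset_covering ?_ hcov
  rw [Sieve.ofArrows, Sieve.generate_le_iff, Presieve.ofArrows_le_iff]
  intro k
  let t : T := ⟨⟨V k, hV k⟩, G.obj.map (w k).op s⟩
  refine ⟨repEquiv _ _ (Sigma.ι A t), ?_⟩
  show repEquiv _ G (Sigma.ι A t ≫ π) = _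
  rw [Sigma.ι_desc, Equiv.apply_symm_apply]

theorem isRightAdjoint_pullT : (pullT i).IsRightAdjoint := by
  refine Functor.isRightAdjoint_of_leftAdjointObjIsDefined_eq_top (top_unique fun G _ => ?_)
  obtain ⟨P, π, hP, hπ⟩ := exists_epi_defined i G
  obtain ⟨Q, q, hQ, hq⟩ := exists_epi_defined i (pullback π π)
  haveI : IsRegularEpiCategory (Sheaf (Scheme.ProEt.topology Z) (Type (u + 1))) := inferInstance
  haveI : IsRegularEpi π := IsRegularEpiCategory.regularEpiOfEpi π
  let hc := IsKernelPair.toCoequalizer' (IsPullback.of_hasPullback π π)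
  have w : (q ≫ pullback.fst π π) ≫ π = (q ≫ pullback.snd π π) ≫ π := by
    rw [Category.assoc, Category.assoc, pullback.condition]
  let hc' : IsColimit (Cofork.ofπ π w) := Cofork.IsColimit.mk _
    (fun s => Cofork.IsColimit.desc hc s.π (by
      haveI := hq
      rw [← cancel_epi q, ← Category.assoc, ← Category.assoc]
      exact s.condition))
    (fun s => Cofork.IsColimit.π_desc' hc _ _)
    (fun s m hm => Cofork.IsColimit.hom_ext hc (hm.trans (Cofork.IsColimit.π_desc' hc _ _).symm))
  exact (pullT i).leftAdjointObjIsDefined_of_isColimit hc' fun j => by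
    cases j
    · exact hQ
    · exact hP

end Groth.Agent.H1Closed.Ty
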