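import Groth.Agent.H1Closed.Rep
import Groth.Agent.H26ProEt.Coprod

/-!
# Local description of pullbacks of pro-etale sheaves
-/

set_option autoImplicit false
set_option backward.isDefEq.respectTransparency false
set_option linter.style.haveILetI false

universe u

open CategoryTheory CategoryTheory.Limits AlgebraicGeometry Opposite

namespace Groth.Agent.H1Closed.Ty

variable {Z X : Scheme.{u}} (i : Z ⟶ X)

attribute [local instance] flat_bcP

theorem forget_preservesColimitsOfShape' {A : Type (u + 1)} [Category.{u} A] [IsFiltered A] :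
    PreservesColimitsOfShape A (forget (Type (u + 1))) := by
  haveI : IsFiltered (ULiftHom.{u + 1} A) := IsFiltered.of_equivalence ULiftHom.equiv
  exact preservesColimitsOfShape_of_equiv (ULiftHom.equiv.{u, u + 1, u + 1} (C := A)).symm (forget (Type (u + 1)))

variable (F : X.ProEtᵒᵖ ⥤ (Type (u + 1)))

/-- The presheaf pullback. -/
noncomputable abbrev prePull : Z.ProEtᵒᵖ ⥤ (Type (u + 1)) := (ProEtS.bcP i).op.lan.obj F

variable {i F}

/-- An element of the presheaf pullback. -/
noncomputable def mk {W : Z.ProEt} {V : X.ProEt} (a : W ⟶ (ProEtS.bcP i).obj V) (x : F.obj (op V)) :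
    (prePull i F).obj (op W) :=
  (prePull i F).map a.op (((ProEtS.bcP i).op.lanUnit.app F).app (op V) x)



theorem exists_rep_and_eq (W : Z.ProEt) :
    (∀ r : (prePull i F).obj (op W), ∃ (V : X.ProEt) (a : W ⟶ (ProEtS.bcP i).obj V) (x : F.obj (op V)), mk a x = r) ∧
    ∀ {V : X.ProEt} (a : W ⟶ (ProEtS.bcP i).obj V) (x y : F.obj (op V)), mk a x = mk a y →
      ∃ (V' : X.ProEt) (h : V' ⟶ V) (a' : W ⟶ (ProEtS.bcP i).obj V'),
        a' ≫ (ProEtS.bcP i).map h = a ∧ F.map h.op x = F.map h.op y := by
  haveI : IsFiltered (CostructuredArrow (ProEtS.bcP i).op (op W)) := inferInstance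
  haveI := forget_preservesColimitsOfShape' (A := CostructuredArrow (ProEtS.bcP i).op (op W))
  let hc := isColimitOfPreserves (forget (Type (u + 1)))
    ((ProEtS.bcP i).op.isPointwiseLeftKanExtensionLeftKanExtensionUnit F (op W))
  refine ⟨fun r => ?_, fun {V} a x y h => ?_⟩
  · obtain ⟨j, x, hx⟩ := Types.jointly_surjective _ hc r
    exact ⟨j.left.unop, j.hom.unop, x, hx⟩
  · obtain ⟨j, g, hg⟩ := (Types.FilteredColimit.isColimit_eq_iff' hc
      (i := CostructuredArrow.mk (S := (ProEtS.bcP i).op) (Y := op V) a.op) x y).1 h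
    exact ⟨j.left.unop, g.left.unop, j.hom.unop, congrArg Quiver.Hom.unop (CostructuredArrow.w g), hg⟩

variable [ProEtS.PCont i] (H : Sheaf (Scheme.ProEt.topology X) (Type (u + 1)))

variable (i) in
/-- The pullback of sheaves of sets. -/
noncomputable abbrev pullT : Sheaf (Scheme.ProEt.topology X) (Type (u + 1)) ⥤ Sheaf (Scheme.ProEt.topology Z) (Type (u + 1)) :=
  (ProEtS.bcP i).sheafPullback (Type (u + 1)) (Scheme.ProEt.topology X) (Scheme.ProEt.topology Z)

variable (i) in
/-- Its adjunction with the direct image. -/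
noncomputable abbrev pullPushT : pullT i ⊣
    (ProEtS.bcP i).sheafPushforwardContinuous (Type (u + 1)) (Scheme.ProEt.topology X) (Scheme.ProEt.topology Z) :=
  (ProEtS.bcP i).sheafAdjunctionContinuous (Type (u + 1)) (Scheme.ProEt.topology X) (Scheme.ProEt.topology Z)

variable (i) in
/-- The unit of the adjunction on sections. -/
noncomputable abbrev ηP (V : X.ProEt) (x : H.obj.obj (op V)) :
    ((pullT i).obj H).obj.obj (op ((ProEtS.bcP i).obj V)) :=
  ((pullPushT i).unit.app H).hom.app (op V) x

/-- The section of the pullback given by a map to a base change. -/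
noncomputable abbrev el {W : Z.ProEt} {V : X.ProEt} (a : W ⟶ (ProEtS.bcP i).obj V) (x : H.obj.obj (op V)) :
    ((pullT i).obj H).obj.obj (op W) :=
  ((pullT i).obj H).obj.map a.op (ηP i H V x)

theorem el_map {W : Z.ProEt} {V V' : X.ProEt} (h : V' ⟶ V) (a : W ⟶ (ProEtS.bcP i).obj V') (x : H.obj.obj (op V)) :
    el H a (H.obj.map h.op x) = el H (a ≫ (ProEtS.bcP i).map h) x := by
  refine (congrArg (((pullT i).obj H).obj.map a.op)
    (NatTrans.naturality_apply ((pullPushT i).unit.app H).hom h.op x)).trans ?_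
  exact (Functor.map_comp_apply _ _ _ _).symm

theorem map_el {W W' : Z.ProEt} {V : X.ProEt} (f : W' ⟶ W) (a : W ⟶ (ProEtS.bcP i).obj V) (x : H.obj.obj (op V)) :
    ((pullT i).obj H).obj.map f.op (el H a x) = el H (f ≫ a) x :=
  (Functor.map_comp_apply _ _ _ _).symm

variable (i) in
/-- The comparison with the constructed pullback. -/
noncomputable abbrev consIso : (pullT i).obj H ≅
    (presheafToSheaf (Scheme.ProEt.topology Z) (Type (u + 1))).obj (prePull i H.obj) :=
  (Functor.sheafPullbackConstruction.sheafPullbackIso (ProEtS.bcP i) (Type (u + 1))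
    (Scheme.ProEt.topology X) (Scheme.ProEt.topology Z)).app H

theorem consIso_el {W : Z.ProEt} {V : X.ProEt} (a : W ⟶ (ProEtS.bcP i).obj V) (x : H.obj.obj (op V)) :
    (consIso i H).hom.hom.app (op W) (el H a x) =
      (toSheafify (Scheme.ProEt.topology Z) (prePull i H.obj)).app (op W) (mk a x) := by
  let adj' := Functor.sheafPullbackConstruction.sheafAdjunctionContinuous (ProEtS.bcP i) (Type (u + 1))
    (Scheme.ProEt.topology X) (Scheme.ProEt.topology Z)
  have h := Adjunction.unit_leftAdjointUniq_hom_app (pullPushT i) adj' H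
  have h' : (adj'.unit.app H).hom = (ProEtS.bcP i).op.lanUnit.app H.obj ≫
      Functor.whiskerLeft (ProEtS.bcP i).op (toSheafify (Scheme.ProEt.topology Z) (prePull i H.obj)) := by
    simp [adj', Functor.sheafPullbackConstruction.sheafAdjunctionContinuous,
      Adjunction.map_restrictFullyFaithful_unit_app]
    try rfl
  refine (NatTrans.naturality_apply (consIso i H).hom.hom a.op (ηP i H V x)).trans (Eq.trans ?_
    (NatTrans.naturality_apply (toSheafify (Scheme.ProEt.topology Z) (prePull i H.obj)) a.op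
      (((ProEtS.bcP i).op.lanUnit.app H.obj).app (op V) x)).symm)
  refine congrArg _ ?_
  have h2 := ConcreteCategory.congr_hom (NatTrans.congr_app ((congrArg (fun q => q.hom) h).trans h') (op V)) x
  exact h2

/-- Every section is locally given by maps to base changes. -/
theorem exists_local_rep {W : Z.ProEt} (r : ((pullT i).obj H).obj.obj (op W)) :
    ∃ R ∈ Scheme.ProEt.topology Z W, ∀ ⦃W' : Z.ProEt⦄ (f : W' ⟶ W), R f →
      ∃ (V : X.ProEt) (a : W' ⟶ (ProEtS.bcP i).obj V) (x : H.obj.obj (op V)),
        ((pullT i).obj H).obj.map f.op r = el H a x := by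
  refine ⟨_, Presheaf.imageSieve_mem (Scheme.ProEt.topology Z)
    (toSheafify (Scheme.ProEt.topology Z) (prePull i H.obj)) (U := op W) ((consIso i H).hom.hom.app (op W) r), ?_⟩
  rintro W' f ⟨t, ht⟩
  obtain ⟨V, a, x, rfl⟩ := (exists_rep_and_eq W').1 t
  refine ⟨V, a, x, ?_⟩
  haveI : IsIso (consIso i H).hom.hom := ((sheafToPresheaf _ _).mapIso (consIso i H)).isIso_hom
  refine (ConcreteCategory.bijective_of_isIso ((consIso i H).hom.hom.app (op W'))).1 ?_
  exact (NatTrans.naturality_apply (consIso i H).hom.hom f.op r).trans (ht.symm.trans (consIso_el H a x).symm)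

/-- Equality of such sections is local equality of the representatives. -/
theorem exists_local_eq {W : Z.ProEt} {V : X.ProEt} (a : W ⟶ (ProEtS.bcP i).obj V) (x y : H.obj.obj (op V))
    (h : el H a x = el H a y) :
    ∃ R ∈ Scheme.ProEt.topology Z W, ∀ ⦃W' : Z.ProEt⦄ (f : W' ⟶ W), R f →
      ∃ (V' : X.ProEt) (g : V' ⟶ V) (a' : W' ⟶ (ProEtS.bcP i).obj V'),
        a' ≫ (ProEtS.bcP i).map g = f ≫ a ∧ H.obj.map g.op x = H.obj.map g.op y := by
  refine ⟨_, Presheaf.equalizerSieve_mem (Scheme.ProEt.topology Z)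
    (toSheafify (Scheme.ProEt.topology Z) (prePull i H.obj)) (X := op W) (mk a x) (mk a y) ?_, ?_⟩
  · exact (consIso_el H a x).symm.trans ((congrArg _ h).trans (consIso_el H a y))
  · intro W' f hf
    have hm : ∀ y, (prePull i H.obj).map f.op (mk a y) = mk (f ≫ a) y := fun y =>
      (Functor.map_comp_apply _ _ _ _).symm
    obtain ⟨V', g, a', hga, hxy⟩ := (exists_rep_and_eq W').2 (f ≫ a) x y ((hm x).symm.trans (hf.trans (hm y)))
    exact ⟨V', g, a', hga, hxy⟩

end Groth.Agent.H1Closed.Ty
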