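import Groth.Agent.H1Closed.Sections
import Groth.Agent.H1Closed.TypeRep

/-!
# Sections of pullbacks of sheaves of sets along closed immersions
-/

set_option autoImplicit false
set_option backward.isDefEq.respectTransparency false
set_option linter.style.haveILetI false

universe u

open CategoryTheory CategoryTheory.Limits AlgebraicGeometry Opposite

namespace Groth.Agent.H1Closed.Ty

open H26ProEt (pieceObj pieceHom IsPartition)

variable {Z X : Scheme.{u}} (i : Z ⟶ X) [HasLifts i]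

variable [ProEtS.PCont i] (H : Sheaf (Scheme.ProEt.topology X) (Type (u + 1)))

theorem el_injective {V : X.ProEt} [IsAffine V.left] (hV : SpecializesInto i V) (x x' : H.obj.obj (op V))
    (hx : el H (𝟙 ((ProEtS.bcP i).obj V)) x = el H (𝟙 ((ProEtS.bcP i).obj V)) x') : x = x' := by
  haveI := isAffine_bcP i V
  obtain ⟨R, hR, hRP⟩ := exists_local_eq H (𝟙 ((ProEtS.bcP i).obj V)) x x' hx
  obtain ⟨κ, _, W', w, U, b, hW', hs, hfac⟩ := exists_fine_cover i hR
    (fun {W'} f V' a' => ∃ g : V' ⟶ V, a' ≫ (ProEtS.bcP i).map g = f ∧ H.obj.map g.op x = H.obj.map g.op x') (fun W' f hf => by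
      obtain ⟨V', g, a', hga, hg⟩ := hRP f hf
      exact ⟨V', a', g, hga.trans (Category.comp_id f), hg⟩)
  choose W₁ f c V₁ a g hP hcf hbg using hfac
  choose g' hg' hgx using hP
  obtain ⟨V', h, e, -, -, hcov⟩ := exists_lift_cover i hV W' (fun k => ⟨(hW' k).1, (hW' k).2.1⟩) U
    (fun k => (hW' k).2.2) (fun k => g k ≫ g' k) b (fun z => by
      obtain ⟨k, y, hy⟩ := hs z
      refine ⟨k, y, ?_⟩
      rw [← hy, Functor.map_comp, ← Category.assoc, hbg, Category.assoc, hg', hcf])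
  have hsh : Presieve.IsSheaf (Scheme.ProEt.topology X) H.obj :=
    (isSheaf_iff_isSheaf_of_type _ _).1 H.property
  refine (hsh _ hcov).isSeparatedFor.ext ?_
  rintro T t ⟨_, q, _, ⟨k⟩, rfl⟩
  show H.obj.map (q ≫ h k ≫ g k ≫ g' k).op x = H.obj.map (q ≫ h k ≫ g k ≫ g' k).op x'
  simp only [op_comp, Functor.map_comp_apply, hgx k]

theorem el_surjective {V : X.ProEt} [IsAffine V.left] (hVw : ProEtS.IsWC V) (hV : SpecializesInto i V)
    (r : ((pullT i).obj H).obj.obj (op ((ProEtS.bcP i).obj V))) :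
    ∃ x, el H (𝟙 ((ProEtS.bcP i).obj V)) x = r := by
  classical
  haveI := isAffine_bcP i V
  haveI : PreservesFiniteLimits (ProEtS.bcP i) := by
    set_option backward.isDefEq.respectTransparency.types false in
    exact inferInstanceAs (PreservesFiniteLimits (MorphismProperty.Over.pullback (T := Scheme.{u}) @WeaklyEtale ⊤ i))
  obtain ⟨R, hR, hRP⟩ := exists_local_rep H r
  obtain ⟨κ, _, W', w, U, b, hW', hs, hfac⟩ := exists_fine_cover i hR
    (fun {W'} f Q a => ∃ (g : Q ⟶ V) (y : H.obj.obj (op Q)), a ≫ (ProEtS.bcP i).map g = f ∧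
      ((pullT i).obj H).obj.map f.op r = el H a y) (fun W' f hf => by
      obtain ⟨Q, a, y, hy⟩ := hRP f hf
      refine ⟨V ⨯ Q, prod.lift f a ≫ (PreservesLimitPair.iso (ProEtS.bcP i) V Q).inv, prod.fst,
        H.obj.map (prod.snd : V ⨯ Q ⟶ Q).op y, ?_, ?_⟩
      · rw [Category.assoc, PreservesLimitPair.iso_inv_fst, prod.lift_fst]
      · rw [el_map, Category.assoc, PreservesLimitPair.iso_inv_snd, prod.lift_snd]
        exact hy)
  choose W₁ f c V₁ a g hP hcf hbg using hfac
  choose g' y hg' hy using hP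
  obtain ⟨V', h, e, hV', he, hcov⟩ := exists_lift_cover i hV W' (fun k => ⟨(hW' k).1, (hW' k).2.1⟩) U
    (fun k => (hW' k).2.2) (fun k => g k ≫ g' k) b (fun z => by
      obtain ⟨k, z', hz⟩ := hs z
      refine ⟨k, z', ?_⟩
      rw [← hz, Functor.map_comp, ← Category.assoc, hbg, Category.assoc, hg', hcf])
  obtain ⟨n, O, hO, hOR⟩ := H26ProEt.refines_of_splits (H26ProEt.splits_of_isWC hVw) _ hcov
  have hex : ∀ {A : X.ProEt} (t : A ⟶ V), Sieve.ofArrows V' (fun k => h k ≫ g k ≫ g' k) t →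
      ∃ (k : κ) (q' : A ⟶ V' k), q' ≫ h k ≫ g k ≫ g' k = t := by
    rintro A t ⟨_, q', _, ⟨k⟩, rfl⟩
    exact ⟨k, q', rfl⟩
  have ht' : ∀ l, ∃ (k : κ) (q' : pieceObj V (O l) ⟶ V' k), q' ≫ h k ≫ g k ≫ g' k = pieceHom V (O l) :=
    fun l => hex _ (hOR l)
  choose k q' hq' using ht'
  have hsh : Presieve.IsSheaf (Scheme.ProEt.topology X) H.obj :=
    (isSheaf_iff_isSheaf_of_type _ _).1 H.property
  obtain ⟨x, hx, -⟩ := hO.existsUnique_section hsh fun l =>
    H.obj.map (q' l ≫ h (k l) ≫ g (k l)).op (y (k l))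
  refine ⟨x, ?_⟩
  have hcovZ : Sieve.ofArrows (fun l => (ProEtS.bcP i).obj (pieceObj V (O l)))
      (fun l => (ProEtS.bcP i).map (pieceHom V (O l))) ∈ Scheme.ProEt.topology Z ((ProEtS.bcP i).obj V) := by
    refine H1EpsS.etTop_le _ (H1EpsS.ofArrows_mem _ (fun l => ?_) fun z => ?_)
    · haveI : IsOpenImmersion ((ProEtS.bcP i).map (pieceHom V (O l))).left :=
        MorphismProperty.of_isPullback (P := @IsOpenImmersion)
          (H1EpsS.isPullback_bcP_map i (pieceHom V (O l))).flip (inferInstanceAs (IsOpenImmersion (O l).ι))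
      infer_instance
    · obtain ⟨l, hl⟩ := hO.cover ((pullback.fst V.hom i : ((ProEtS.bcP i).obj V).left ⟶ V.left) z)
      obtain ⟨z', -, hz'⟩ := Scheme.exists_preimage_of_isPullback (H1EpsS.isPullback_bcP_map i (pieceHom V (O l))).flip
        (⟨_, hl⟩ : (pieceObj V (O l)).left) z rfl
      exact ⟨l, z', hz'⟩
  have hsh' : Presieve.IsSheaf (Scheme.ProEt.topology Z) ((pullT i).obj H).obj :=
    (isSheaf_iff_isSheaf_of_type _ _).1 ((pullT i).obj H).property
  refine (hsh' _ hcovZ).isSeparatedFor.ext ?_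
  rintro T' t' ⟨_, p, _, ⟨l⟩, rfl⟩
  show ((pullT i).obj H).obj.map (p ≫ (ProEtS.bcP i).map (pieceHom V (O l))).op _ =
    ((pullT i).obj H).obj.map (p ≫ (ProEtS.bcP i).map (pieceHom V (O l))).op r
  rw [op_comp, Functor.map_comp_apply, Functor.map_comp_apply]
  refine congrArg _ ?_
  rw [map_el, Category.comp_id, ← Category.id_comp ((ProEtS.bcP i).map (pieceHom V (O l))), ← el_map]
  erw [hx l]
  rw [el_map, Category.id_comp, Functor.map_comp, Category.id_comp]
  let m : (ProEtS.bcP i).obj (pieceObj V (O l)) ⟶ W₁ (k l) :=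
    (ProEtS.bcP i).map (q' l) ≫ (e (k l)).inv ≫ c (k l)
  have hma : m ≫ a (k l) = (ProEtS.bcP i).map (q' l) ≫ (ProEtS.bcP i).map (h (k l) ≫ g (k l)) := by
    simp only [m, Category.assoc, ← hbg, ← he, Functor.map_comp, Iso.inv_hom_id_assoc]
  have hmf : m ≫ f (k l) = (ProEtS.bcP i).map (pieceHom V (O l)) := by
    rw [← hg', ← Category.assoc, hma, ← hq' l]
    simp only [Functor.map_comp, Category.assoc]
  rw [← hma, ← map_el, ← hy, ← Functor.map_comp_apply, ← op_comp, hmf]

theorem el_bijective {V : X.ProEt} [IsAffine V.left] (hVw : ProEtS.IsWC V) (hV : SpecializesInto i V) :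
    Function.Bijective (ηP i H V) := by
  have key : ∀ x, el H (𝟙 ((ProEtS.bcP i).obj V)) x = ηP i H V x := fun x => by
    simp [el]
  refine ⟨fun x y hxy => el_injective i H hV x y ((key x).trans (hxy.trans (key y).symm)), fun r => ?_⟩
  obtain ⟨x, hx⟩ := el_surjective i H hVw hV r
  exact ⟨x, (key x).symm.trans hx⟩

end Groth.Agent.H1Closed.Ty
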